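import Groth.Prelude.Def_FDesc
import Groth.Agent.Lib.AssPt.FlatDom
import Groth.Agent.Lib.StCurv.CohenMacaulay
import Groth.Agent.Lib.Unram.UnibranchEtale
import Groth.Agent.Lib.Henselian.DescendSection
import Groth.Agent.S2299
import Mathlib.AlgebraicGeometry.Morphisms.QuasiFinite
import Mathlib.AlgebraicGeometry.AlgClosed.Basic
import Mathlib.AlgebraicGeometry.Noetherian
import Mathlib.FieldTheory.IsAlgClosed.AlgebraicClosure

/-!
# Etale affine factorizations with scheme-theoretically dominant first map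
-/

set_option autoImplicit false
set_option linter.style.haveILetI false

universe u

open CategoryTheory CategoryTheory.Limits AlgebraicGeometry TopologicalSpace Opposite
open Groth.Agent.Lib Groth.Agent.Lib.AssPt.Basic

noncomputable section

namespace Groth.Agent.Lib.EtHull9

variable {X S : Scheme.{u}}

/-- A point with no proper generalization. -/
def IsMaxPt {T : Scheme.{u}} (x : T) : Prop := ∀ y : T, y ⤳ x → y = x

theorem IsMaxPt.maxAssoc {T : Scheme.{u}} {x : T} (h : IsMaxPt x) :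
    MaxAssoc (T.presheaf.stalk x) := by
  obtain ⟨y, hy, hA⟩ := AssPt.FlatDom.exists_maxAssoc_generalization x
  obtain rfl := h y hy
  exact hA

theorem isMaxPt_of_maxAssoc [IsLocallyNoetherian S]
    (hemb : AssSch.NoEmbedded (Coh.structureModule S)) {T : Scheme.{u}} (g : T ⟶ S) [Etale g]
    {x : T} (hx : MaxAssoc (T.presheaf.stalk x)) : IsMaxPt x := by
  haveI := Henselian.DescendSection.locallyQuasiFinite_of_etale g
  intro y hyx
  obtain ⟨t, hty, ht⟩ := AssPt.FlatDom.exists_maxAssoc_generalization y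
  have h1 : g t = g x := (hemb (g x)
    ((isAssPoint_structure_iff _).2 ((AssPt.FlatDom.maxAssoc_iff_of_etale g x).1 hx)) (g t)
    ((isAssPoint_structure_iff _).2 ((AssPt.FlatDom.maxAssoc_iff_of_etale g t).1 ht))
    ((hty.trans hyx).map g.continuous)).symm
  haveI : DiscreteTopology ↑(⇑g ⁻¹' {g x}) := (g.isDiscrete_preimage_singleton (g x)).1
  have h2 : (⟨t, h1⟩ : ↑(⇑g ⁻¹' {g x})) ⤳ ⟨x, rfl⟩ :=
    (subtype_specializes_iff _ _).2 (hty.trans hyx)
  have h3 : t = x := congrArg Subtype.val h2.eq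
  subst h3
  exact (hyx.antisymm hty).eq

theorem isMaxPt_map [IsLocallyNoetherian S] (hemb : AssSch.NoEmbedded (Coh.structureModule S))
    {T : Scheme.{u}} (g : T ⟶ S) [Etale g] {x : T} (hx : IsMaxPt x) : IsMaxPt (g x) :=
  isMaxPt_of_maxAssoc hemb (𝟙 S) ((AssPt.FlatDom.maxAssoc_iff_of_etale g x).1 hx.maxAssoc)

theorem isMaxPt_of_map {T : Scheme.{u}} (g : T ⟶ S) [Etale g] {x : T} (hx : IsMaxPt (g x)) :
    IsMaxPt x := by
  haveI := Henselian.DescendSection.locallyQuasiFinite_of_etale g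
  intro y hyx
  have h1 : g y = g x := hx _ (hyx.map g.continuous)
  haveI : DiscreteTopology ↑(⇑g ⁻¹' {g x}) := (g.isDiscrete_preimage_singleton (g x)).1
  have h2 : (⟨y, h1⟩ : ↑(⇑g ⁻¹' {g x})) ⤳ ⟨x, rfl⟩ := (subtype_specializes_iff _ _).2 hyx
  exact congrArg Subtype.val h2.eq

/-- An admissible factorization. -/
structure Fac (f : X ⟶ S) where
  E : Scheme.{u}
  g : E ⟶ S
  u : X ⟶ E
  etale : Etale g
  affine : IsAffineHom g
  dom : IsSchemeTheoreticallyDominant u
  fac : u ≫ g = f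

attribute [instance] Fac.etale Fac.affine Fac.dom

variable {f : X ⟶ S}

/-- A morphism of admissible factorizations. -/
structure Fac.Hom (A B : Fac f) where
  v : A.E ⟶ B.E
  hu : A.u ≫ v = B.u
  hg : v ≫ B.g = A.g

theorem Fac.hom_ext {A B : Fac f} (a b : Fac.Hom A B) : a.v = b.v :=
  S2299.result A.u B.g a.v b.v (a.hg.trans b.hg.symm) (a.hu.trans b.hu.symm)

instance Fac.flat_u [Flat f] (A : Fac f) : Flat A.u := by
  haveI : Flat (A.u ≫ A.g) := A.fac.symm ▸ ‹Flat f›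
  exact StCurv.flat_of_comp_etale A.u A.g

theorem Fac.mem_range_of_isMaxPt [IsNoetherian S] [Flat f] (A : Fac f) {e : A.E} (he : IsMaxPt e) :
    e ∈ Set.range A.u :=
  haveI : IsLocallyNoetherian A.E := LocallyOfFiniteType.isLocallyNoetherian A.g
  (AssPt.FlatDom.isSchemeTheoreticallyDominant_iff_of_flat A.u).1 A.dom e he.maxAssoc

instance Fac.isNoetherian_E [IsNoetherian S] (A : Fac f) : IsNoetherian A.E :=
  haveI : IsLocallyNoetherian A.E := LocallyOfFiniteType.isLocallyNoetherian A.g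
  haveI : CompactSpace A.E := QuasiCompact.compactSpace_of_compactSpace A.g
  {}

/-- The clopen part met by a flat map into an etale affine scheme over a unibranch base. -/
theorem exists_clopen_part [IsNoetherian S] [Flat f] [QuasiCompact f]
    (hS : ∀ s : S, CAlg2.IsGeomUnibranch (S.presheaf.stalk s))
    (hemb : AssSch.NoEmbedded (Coh.structureModule S))
    {P : Scheme.{u}} (gP : P ⟶ S) [Etale gP] [IsAffineHom gP] (u : X ⟶ P) (hu : u ≫ gP = f) :
    ∃ (A : Fac f) (i : A.E ⟶ P), A.u ≫ i = u ∧ i ≫ gP = A.g ∧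
      ∀ (B : Fac f) (w : B.E ⟶ P), B.u ≫ w = u → w ≫ gP = B.g →
        ∃ h : Fac.Hom B A, h.v ≫ i = w := by
  haveI : Flat (u ≫ gP) := hu ▸ inferInstance
  haveI : Flat u := StCurv.flat_of_comp_etale u gP
  haveI : IsLocallyNoetherian P := LocallyOfFiniteType.isLocallyNoetherian gP
  haveI : CompactSpace P := QuasiCompact.compactSpace_of_compactSpace gP
  haveI : IsNoetherian P := {}
  have huniq : ∀ x : P, ∃! Z, Z ∈ irreducibleComponents ↥P ∧ x ∈ Z := fun x =>
    Unram.UnibranchEtale.existsUnique_component x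
      (Unram.UnibranchEtale.stalk_props gP x (Flat.stalkMap gP x)
        (FormallyUnramified.stalkMap gP x) (hS _)).1
  let A : Set (Set P) := {Z ∈ irreducibleComponents ↥P | (Z ∩ Set.range u).Nonempty}
  let B : Set (Set P) := {Z ∈ irreducibleComponents ↥P | ¬ (Z ∩ Set.range u).Nonempty}
  have hfin := TopologicalSpace.NoetherianSpace.finite_irreducibleComponents (α := ↥P)
  have hA : IsClosed (⋃₀ A) := by
    rw [Set.sUnion_eq_biUnion]
    exact (hfin.subset fun Z hZ => hZ.1).isClosed_biUnion fun Z hZ =>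
      isClosed_of_mem_irreducibleComponents Z hZ.1
  have hB : IsClosed (⋃₀ B) := by
    rw [Set.sUnion_eq_biUnion]
    exact (hfin.subset fun Z hZ => hZ.1).isClosed_biUnion fun Z hZ =>
      isClosed_of_mem_irreducibleComponents Z hZ.1
  have hAB : (⋃₀ A)ᶜ = ⋃₀ B := by
    ext x
    obtain ⟨Z, ⟨hZ, hxZ⟩, hun⟩ := huniq x
    refine ⟨fun hx => ⟨Z, ⟨hZ, fun hne => hx ⟨Z, ⟨hZ, hne⟩, hxZ⟩⟩, hxZ⟩, ?_⟩
    rintro ⟨Z₁, hZ₁, hx₁⟩ ⟨Z₂, hZ₂, hx₂⟩
    exact hZ₁.2 ((hun Z₁ ⟨hZ₁.1, hx₁⟩).trans (hun Z₂ ⟨hZ₂.1, hx₂⟩).symm ▸ hZ₂.2)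
  let U : P.Opens := ⟨⋃₀ A, by rw [← isClosed_compl_iff, hAB]; exact hB⟩
  haveI : IsClosedImmersion U.ι := .of_isPreimmersion _ (by rw [Scheme.Opens.range_ι]; exact hA)
  have hru : ∀ x, u x ∈ U := fun x => by
    obtain ⟨Z, ⟨hZ, hxZ⟩, -⟩ := huniq (u x)
    exact ⟨Z, ⟨hZ, u x, hxZ, x, rfl⟩, hxZ⟩
  let uE : X ⟶ U := IsOpenImmersion.lift U.ι u (by
    rw [Scheme.Opens.range_ι]; rintro _ ⟨x, rfl⟩; exact hru x)
  have huE : uE ≫ U.ι = u := IsOpenImmersion.lift_fac _ _ _
  haveI : Etale (U.ι ≫ gP) := MorphismProperty.comp_mem @Etale _ _ inferInstance ‹_›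
  have huEg : uE ≫ U.ι ≫ gP = f := by rw [← Category.assoc, huE, hu]
  haveI : Flat (uE ≫ U.ι ≫ gP) := huEg ▸ inferInstance
  haveI : Flat uE := StCurv.flat_of_comp_etale uE (U.ι ≫ gP)
  have hdom : IsSchemeTheoreticallyDominant uE := by
    rw [AssPt.FlatDom.isSchemeTheoreticallyDominant_iff_of_flat]
    intro x hx
    obtain ⟨Z, ⟨hZ, hne⟩, hxZ⟩ : (U.ι x : P) ∈ ⋃₀ A := x.2
    obtain ⟨z, hzZ, w, hw⟩ := hne
    obtain ⟨η, hη⟩ := QuasiSober.sober hZ.1 (isClosed_of_mem_irreducibleComponents Z hZ)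
    have hmax : IsMaxPt (U.ι x) :=
      isMaxPt_of_maxAssoc hemb gP ((AssPt.FlatDom.maxAssoc_iff_of_etale U.ι x).1 hx)
    have heq : η = U.ι x := hmax η (hη.specializes hxZ)
    obtain ⟨w', -, hw'⟩ := Flat.generalizingMap (f := u) (hw ▸ hη.specializes hzZ : η ⤳ u w)
    refine ⟨w', U.ι.isOpenEmbedding.injective ?_⟩
    rw [← Scheme.Hom.comp_apply, huE, hw', heq]
  refine ⟨⟨U, U.ι ≫ gP, uE, inferInstance, inferInstance, hdom, huEg⟩, U.ι, huE, rfl, ?_⟩
  intro B w huw hwg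
  haveI : QuasiCompact (B.u ≫ B.g) := B.fac.symm ▸ ‹QuasiCompact f›
  haveI : QuasiCompact B.u := QuasiCompact.of_comp B.u B.g
  have hrw : Set.range w ⊆ Set.range U.ι := by
    rw [Scheme.Opens.range_ι]
    rintro _ ⟨e, rfl⟩
    by_contra he
    obtain ⟨x, hy⟩ := B.u.denseRange.exists_mem_open (hA.isOpen_compl.preimage w.continuous) ⟨e, he⟩
    refine hy ?_
    rw [← Scheme.Hom.comp_apply, huw]
    exact hru x
  exact ⟨⟨IsOpenImmersion.lift U.ι w hrw,
    by rw [← cancel_mono U.ι, Category.assoc, IsOpenImmersion.lift_fac, huw, huE],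
    by rw [IsOpenImmersion.lift_fac_assoc]; exact hwg⟩, IsOpenImmersion.lift_fac _ _ _⟩

/-- Suprema. -/
theorem exists_sup [IsNoetherian S] [Flat f] [QuasiCompact f]
    (hS : ∀ s : S, CAlg2.IsGeomUnibranch (S.presheaf.stalk s))
    (hemb : AssSch.NoEmbedded (Coh.structureModule S)) (A B : Fac f) :
    ∃ (C : Fac f), Nonempty (Fac.Hom C A) ∧ Nonempty (Fac.Hom C B) ∧
      ∀ D : Fac f, Fac.Hom D A → Fac.Hom D B → Nonempty (Fac.Hom D C) := by
  let gP : pullback A.g B.g ⟶ S := pullback.fst A.g B.g ≫ A.g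
  haveI : Etale gP := MorphismProperty.comp_mem @Etale _ _
    (MorphismProperty.pullback_fst (P := @Etale) A.g B.g B.etale) A.etale
  haveI : IsAffineHom gP := MorphismProperty.comp_mem @IsAffineHom _ _
    (MorphismProperty.pullback_fst (P := @IsAffineHom) A.g B.g B.affine) A.affine
  obtain ⟨C, i, hiu, hig, huniv⟩ := exists_clopen_part hS hemb gP
    (pullback.lift A.u B.u (A.fac.trans B.fac.symm))
    (by rw [← Category.assoc, pullback.lift_fst, A.fac])
  refine ⟨C, ⟨⟨i ≫ pullback.fst _ _, by rw [← Category.assoc, hiu, pullback.lift_fst],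
      by rw [Category.assoc]; exact hig⟩⟩,
    ⟨⟨i ≫ pullback.snd _ _, by rw [← Category.assoc, hiu, pullback.lift_snd],
      by rw [Category.assoc, ← pullback.condition]; exact hig⟩⟩, fun D a b => ?_⟩
  obtain ⟨h, -⟩ := huniv D (pullback.lift a.v b.v (a.hg.trans b.hg.symm))
    (pullback.hom_ext (by rw [Category.assoc, pullback.lift_fst, pullback.lift_fst]; exact a.hu)
      (by rw [Category.assoc, pullback.lift_snd, pullback.lift_snd]; exact b.hu))
    (by rw [← Category.assoc, pullback.lift_fst]; exact a.hg)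
  exact ⟨h⟩

end Groth.Agent.Lib.EtHull9
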