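import Groth.Agent.Lib.EtHull9.EqLocus
import Mathlib.AlgebraicGeometry.Morphisms.FormallyUnramified
import Mathlib.AlgebraicGeometry.Morphisms.ClosedImmersion
import Mathlib.AlgebraicGeometry.Morphisms.OpenImmersion
import Mathlib.AlgebraicGeometry.Morphisms.Separated
import Mathlib.RingTheory.Ideal.IdempotentFG

/-!
# Agreement loci over formally unramified separated morphisms are clopen

A closed immersion into a locally Noetherian scheme with the lifting property for square-zero
thickenings is an open immersion; this applies to the locus where two maps to a formally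
unramified separated scheme over the base agree.
-/

set_option autoImplicit false
set_option linter.style.haveILetI false
set_option backward.isDefEq.respectTransparency.types false
set_option backward.isDefEq.respectTransparency false

universe u

open CategoryTheory CategoryTheory.Limits AlgebraicGeometry

noncomputable section

namespace Groth.Agent.Lib.EtHull9

variable {X W V : Scheme.{u}}

theorem isNilpotent_ker_SpecMap {A B : CommRingCat.{u}} (π : A ⟶ B)
    (hπ : RingHom.ker π.hom ^ 2 = ⊥) : IsNilpotent (Spec.map π).ker := by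
  refine ⟨2, ?_⟩
  apply Scheme.IdealSheafData.equivOfIsAffine.injective
  rw [map_pow, map_zero]
  change ((Spec.map π).ker.ideal ⟨⊤, isAffineOpen_top _⟩) ^ 2 = 0
  rw [Scheme.Hom.ker_apply, Ideal.zero_eq_bot, eq_bot_iff, sq, Ideal.mul_le]
  intro x hx y hy
  rw [Ideal.mem_bot]
  apply (Scheme.ΓSpecIso A).commRingCatIsoToRingEquiv.injective
  rw [map_mul, map_zero]
  have key : ∀ z, z ∈ RingHom.ker ((Spec.map π).app ⊤).hom →
      (Scheme.ΓSpecIso A).hom.hom z ∈ RingHom.ker π.hom := by
    intro z hz
    have h := congrArg (fun k => k.hom z) (Scheme.ΓSpecIso_naturality π)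
    simp only [CommRingCat.hom_comp, RingHom.comp_apply] at h
    rw [RingHom.mem_ker] at hz ⊢
    erw [hz, map_zero] at h
    exact h.symm
  have := Ideal.mul_mem_mul (key x hx) (key y hy)
  rw [← sq, hπ, Ideal.mem_bot] at this
  exact this

/-- A closed immersion into a locally Noetherian scheme along which square-zero thickenings lift
is an open immersion. -/
theorem isOpenImmersion_of_lifts {Z P : Scheme.{u}} (i : Z ⟶ P) [IsClosedImmersion i]
    [IsLocallyNoetherian P]
    (H : ∀ {A B : CommRingCat.{u}} (π : A ⟶ B), Function.Surjective π.hom →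
      RingHom.ker π.hom ^ 2 = ⊥ → ∀ (g : Spec A ⟶ P) (g₀ : Spec B ⟶ Z),
        g₀ ≫ i = Spec.map π ≫ g → ∃ g' : Spec A ⟶ Z, g' ≫ i = g) :
    IsOpenImmersion i := by
  rw [IsZariskiLocalAtTarget.iff_of_openCover (P := @IsOpenImmersion) P.affineCover]
  intro k
  change IsOpenImmersion (pullback.snd i (P.affineCover.f k))
  suffices ∀ {A : CommRingCat.{u}} (j : Spec A ⟶ P) [IsOpenImmersion j],
      IsOpenImmersion (pullback.snd i j) from this (P.affineCover.f k)
  intro A j _
  haveI : IsLocallyNoetherian (Spec A) := LocallyOfFiniteType.isLocallyNoetherian j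
  haveI : IsNoetherianRing A := isLocallyNoetherian_Spec.mp ‹_›
  have hcl : IsClosedImmersion (pullback.snd i j) := inferInstance
  obtain ⟨I, e, he⟩ := IsClosedImmersion.Spec_iff.mp hcl
  rw [he, MorphismProperty.cancel_left_of_respectsIso (P := @IsOpenImmersion),
    isOpenImmersion_SpecMap_iff_of_surjective _ Ideal.Quotient.mk_surjective]
  have hI : IsIdempotentElem I := by
    refine le_antisymm Ideal.mul_le_left ?_
    let q : A ⟶ CommRingCat.of (A ⧸ I ^ 2) := CommRingCat.ofHom (Ideal.Quotient.mk (I ^ 2))
    let π : CommRingCat.of (A ⧸ I ^ 2) ⟶ CommRingCat.of (A ⧸ I) :=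
      CommRingCat.ofHom (Ideal.Quotient.factor (Ideal.pow_le_self two_ne_zero))
    have hqπ : q ≫ π = CommRingCat.ofHom (Ideal.Quotient.mk I) := by
      ext x
      rfl
    have hker : RingHom.ker π.hom ^ 2 = ⊥ := by
      have e : RingHom.ker π.hom = I.map (Ideal.Quotient.mk (I ^ 2)) := by
        ext y
        obtain ⟨y, rfl⟩ := Ideal.Quotient.mk_surjective y
        change Ideal.Quotient.factor (Ideal.pow_le_self two_ne_zero) (Ideal.Quotient.mk _ y) = 0 ↔ _
        rw [Ideal.Quotient.factor_mk, Ideal.Quotient.eq_zero_iff_mem,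
          Ideal.mem_quotient_iff_mem (Ideal.pow_le_self two_ne_zero)]
      rw [e, ← Ideal.map_pow, Ideal.map_quotient_self]
    obtain ⟨g', hg'⟩ := H π (Ideal.Quotient.factor_surjective (Ideal.pow_le_self two_ne_zero)) hker (Spec.map q ≫ j)
      (e.inv ≫ pullback.fst i j) (by
        rw [Category.assoc, pullback.condition, he, Category.assoc, Iso.inv_hom_id_assoc,
          ← hqπ, Spec.map_comp, Category.assoc])
    let l : Spec (CommRingCat.of (A ⧸ I ^ 2)) ⟶ pullback i j := pullback.lift g' (Spec.map q) hg'
    have hl : Spec.map q = (l ≫ e.hom) ≫ Spec.map (CommRingCat.ofHom (Ideal.Quotient.mk I)) := by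
      rw [Category.assoc, ← he, pullback.lift_snd]
    obtain ⟨ψ, hψ⟩ := Spec.map_surjective (l ≫ e.hom)
    rw [← hψ, ← Spec.map_comp, Spec.map_inj] at hl
    intro x hx
    have h0 : q.hom x = 0 := by
      rw [hl]
      simp [Ideal.Quotient.eq_zero_iff_mem.2 hx]
    rw [← sq]
    exact Ideal.Quotient.eq_zero_iff_mem.1 h0
  obtain ⟨a, ha, hIa⟩ := (Ideal.isIdempotentElem_iff_of_fg I (IsNoetherian.noetherian I)).1 hI
  exact ⟨a, ha, by simpa [Ideal.mk_ker] using hIa⟩

/-- Over a separated formally unramified target the agreement locus is clopen. -/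
theorem exists_isEqLocus (f : X ⟶ W) (h : X ⟶ V) (b : V ⟶ W) [FormallyUnramified b]
    [IsSeparated b] (w : h ≫ b = f) [IsLocallyNoetherian (pullback f f)] :
    ∃ C, IsEqLocus f h C := by
  have hw : (pullback.fst f f ≫ h) ≫ b = (pullback.snd f f ≫ h) ≫ b := by
    rw [Category.assoc, Category.assoc, w, pullback.condition]
  let k : pullback f f ⟶ pullback b b := pullback.lift _ _ hw
  let i : pullback (pullback.diagonal b) k ⟶ pullback f f := pullback.snd _ _
  have crit : ∀ {T : Scheme.{u}} (t : T ⟶ pullback f f),
      (t ≫ pullback.fst f f) ≫ h = (t ≫ pullback.snd f f) ≫ h ↔ ∃ t', t' ≫ i = t := by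
    intro T t
    constructor
    · intro e
      refine ⟨pullback.lift ((t ≫ pullback.fst f f) ≫ h) t ?_, pullback.lift_snd _ _ _⟩
      apply pullback.hom_ext
      · simp only [k, Category.assoc, pullback.diagonal_fst, pullback.lift_fst, Category.comp_id]
      · simp only [k, Category.assoc, pullback.diagonal_snd, pullback.lift_snd, Category.comp_id]
        simpa only [Category.assoc] using e
    · rintro ⟨t', rfl⟩
      have e := pullback.condition (f := pullback.diagonal b) (g := k)
      have e1 := congrArg (fun m => t' ≫ m ≫ pullback.fst b b) e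
      have e2 := congrArg (fun m => t' ≫ m ≫ pullback.snd b b) e
      simp only [k, Category.assoc, pullback.diagonal_fst, pullback.diagonal_snd,
        pullback.lift_fst, pullback.lift_snd, Category.comp_id] at e1 e2
      simp only [i, Category.assoc]
      rw [← e1, ← e2]
  haveI : IsClosedImmersion i := inferInstance
  haveI : IsOpenImmersion i := by
    refine isOpenImmersion_of_lifts i fun {A B} π hπ hsq g g₀ hg => ?_
    haveI : IsClosedImmersion (Spec.map π) := IsClosedImmersion.spec_of_surjective π hπ
    refine (crit g).1 (FormallyUnramified.hom_ext (Spec.map π) (isNilpotent_ker_SpecMap π hsq) b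
      ?_ ?_)
    · have := (crit (Spec.map π ≫ g)).2 ⟨g₀, hg⟩
      simpa only [Category.assoc] using this
    · simp only [Category.assoc, w, pullback.condition]
  refine ⟨i.opensRange, ?_, fun {T} a c e => ?_⟩
  · exact i.isClosedEmbedding.isClosed_range
  · have h1 := crit (pullback.lift a c e)
    rw [pullback.lift_fst, pullback.lift_snd] at h1
    rw [h1]
    constructor
    · rintro ⟨t', ht'⟩ _ ⟨t, rfl⟩
      rw [← ht', Scheme.Hom.comp_apply]
      exact ⟨t' t, rfl⟩
    · intro hr
      exact ⟨IsOpenImmersion.lift i _ hr, IsOpenImmersion.lift_fac _ _ _⟩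

end Groth.Agent.Lib.EtHull9
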