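import Mathlib.AlgebraicGeometry.AlgClosed.Basic
import Mathlib.AlgebraicGeometry.Morphisms.UniversallyOpen
import Mathlib.AlgebraicGeometry.Noetherian
import Mathlib.FieldTheory.IsAlgClosed.AlgebraicClosure

/-!
# Clopen kernel pairs and the number of geometric classes

For `f : X ⟶ W` and `h : X ⟶ V`, the condition that the locus in `X ×_W X` where the two
composites with `h` agree is clopen, and the boundedness of the number of distinct values of
`h` on a geometric fibre of `f`.
-/

set_option autoImplicit false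
set_option linter.style.haveILetI false

universe u

open CategoryTheory CategoryTheory.Limits AlgebraicGeometry TopologicalSpace

noncomputable section

namespace Groth.Agent.Lib.EtHull9

variable {X W V : Scheme.{u}}

/-- The point of the spectrum of a field. -/
abbrev pt (K : Type u) [Field K] : ↥(Spec (CommRingCat.of K)) := IsLocalRing.closedPoint K

/-- The locus in `X ×_W X` where the composites with `h` agree is the clopen `C`. -/
def IsEqLocus (f : X ⟶ W) (h : X ⟶ V) (C : (pullback f f).Opens) : Prop :=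
  IsClosed (C : Set ↥(pullback f f)) ∧ ∀ {T : Scheme.{u}} (a b : T ⟶ X) (w : a ≫ f = b ≫ f),
    a ≫ h = b ≫ h ↔ Set.range (pullback.lift a b w) ⊆ (C : Set ↥(pullback f f))

/-- There are `n` points in the geometric fibre at `s` with distinct values of `h`. -/
def HasPts (f : X ⟶ W) (h : X ⟶ V) (n : ℕ) (K : Type u) [Field K]
    (s : Spec (.of K) ⟶ W) : Prop :=
  ∃ x : Fin n → (Spec (.of K) ⟶ X), (∀ i, x i ≫ f = s) ∧ Function.Injective fun i => x i ≫ h

theorem IsEqLocus.pull {f : X ⟶ W} {h : X ⟶ V} {C : (pullback f f).Opens}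
    (hC : IsEqLocus f h C) {X' W' : Scheme.{u}} (f' : X' ⟶ W') (k : X' ⟶ X)
    (w : (pullback.fst f' f' ≫ k) ≫ f = (pullback.snd f' f' ≫ k) ≫ f) :
    IsEqLocus f' (k ≫ h)
      (pullback.lift (pullback.fst f' f' ≫ k) (pullback.snd f' f' ≫ k) w ⁻¹ᵁ C) := by
  refine ⟨hC.1.preimage (Scheme.Hom.continuous _), fun {T} a b e => ?_⟩
  have e' : (a ≫ k) ≫ f = (b ≫ k) ≫ f := by
    have := congrArg (pullback.lift a b e ≫ ·) w
    simpa only [Category.assoc, pullback.lift_fst_assoc, pullback.lift_snd_assoc] using this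
  have hl : pullback.lift a b e ≫
      pullback.lift (pullback.fst f' f' ≫ k) (pullback.snd f' f' ≫ k) w =
        pullback.lift (a ≫ k) (b ≫ k) e' :=
    pullback.hom_ext
      (by simp only [Category.assoc, pullback.lift_fst, pullback.lift_fst_assoc])
      (by simp only [Category.assoc, pullback.lift_snd, pullback.lift_snd_assoc])
  rw [← Category.assoc, ← Category.assoc, hC.2 (a ≫ k) (b ≫ k) e', ← hl]
  constructor
  · rintro hr _ ⟨t, rfl⟩
    exact hr ⟨t, rfl⟩
  · rintro hr _ ⟨t, rfl⟩
    exact hr ⟨t, rfl⟩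

theorem range_spec_eq {K : Type u} [Field K] {T : Scheme.{u}} (g : Spec (.of K) ⟶ T) :
    Set.range g = {g (pt K)} :=
  Set.range_eq_singleton fun _ => congrArg g (Subsingleton.elim _ _)

theorem IsEqLocus.eq_iff_mem {f : X ⟶ W} {h : X ⟶ V} {C : (pullback f f).Opens}
    (hC : IsEqLocus f h C) {K : Type u} [Field K] (a b : Spec (.of K) ⟶ X)
    (w : a ≫ f = b ≫ f) :
    a ≫ h = b ≫ h ↔ pullback.lift a b w (pt K) ∈ C := by
  rw [hC.2 a b w, range_spec_eq, Set.singleton_subset_iff, SetLike.mem_coe]

theorem IsEqLocus.lift_self_mem {f : X ⟶ W} {h : X ⟶ V} {C : (pullback f f).Opens}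
    (hC : IsEqLocus f h C) {T : Scheme.{u}} (a : T ⟶ X) (w : a ≫ f = a ≫ f) (t : T) :
    pullback.lift a a w t ∈ C :=
  (hC.2 a a w).1 rfl ⟨t, rfl⟩

/-- The complement of the clopen locus. -/
def coOpens {f : X ⟶ W} {h : X ⟶ V} {C : (pullback f f).Opens} (hC : IsEqLocus f h C) :
    (pullback f f).Opens :=
  ⟨(C : Set ↥(pullback f f))ᶜ, hC.1.isOpen_compl⟩

/-- The projection of the complement to the second factor. -/
abbrev coHom {f : X ⟶ W} {h : X ⟶ V} {C : (pullback f f).Opens} (hC : IsEqLocus f h C) :
    (coOpens hC : Scheme.{u}) ⟶ X :=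
  (coOpens hC).ι ≫ pullback.snd f f

/-- The first component of the complement. -/
abbrev coVal {f : X ⟶ W} {h : X ⟶ V} {C : (pullback f f).Opens} (hC : IsEqLocus f h C) :
    (coOpens hC : Scheme.{u}) ⟶ X :=
  (coOpens hC).ι ≫ pullback.fst f f

theorem exists_isEqLocus_coHom {f : X ⟶ W} {h : X ⟶ V} {C : (pullback f f).Opens}
    (hC : IsEqLocus f h C) :
    ∃ C', IsEqLocus (coHom hC) (coVal hC ≫ h) C' := by
  refine ⟨_, hC.pull (coHom hC) (coVal hC) ?_⟩
  have h1 := pullback.condition (f := coHom hC) (g := coHom hC)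
  simp only [coHom, coVal] at h1 ⊢
  simp only [Category.assoc, pullback.condition]
  rw [reassoc_of% h1]

theorem ne_coVal {f : X ⟶ W} {h : X ⟶ V} {C : (pullback f f).Opens} (hC : IsEqLocus f h C)
    {K : Type u} [Field K] (q : Spec (.of K) ⟶ (coOpens hC : Scheme.{u})) :
    q ≫ coVal hC ≫ h ≠ (q ≫ coHom hC) ≫ h := by
  intro e
  have w : (q ≫ coVal hC) ≫ f = (q ≫ coHom hC) ≫ f := by
    simp only [coVal, coHom, Category.assoc, pullback.condition]
  have h1 := (hC.eq_iff_mem (q ≫ coVal hC) (q ≫ coHom hC) w).1 (by rw [Category.assoc]; exact e)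
  have hl : pullback.lift (q ≫ coVal hC) (q ≫ coHom hC) w = q ≫ (coOpens hC).ι :=
    pullback.hom_ext (by simp only [coVal, Category.assoc, pullback.lift_fst])
      (by simp only [coHom, Category.assoc, pullback.lift_snd])
  rw [hl, Scheme.Hom.comp_apply] at h1
  exact (q (pt K)).2 h1

theorem HasPts.succ {f : X ⟶ W} {h : X ⟶ V} {C : (pullback f f).Opens} (hC : IsEqLocus f h C)
    {n : ℕ} {K : Type u} [Field K] {y : Spec (.of K) ⟶ X}
    (H : HasPts (coHom hC) (coVal hC ≫ h) n K y) : HasPts f h (n + 1) K (y ≫ f) := by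
  obtain ⟨q, hq, hinj⟩ := H
  refine ⟨Fin.cases y (fun i => q i ≫ coVal hC), fun i => ?_, ?_⟩
  · induction i using Fin.cases with
    | zero => simp
    | succ i =>
      simp only [Fin.cases_succ]
      rw [← hq i]
      simp only [coVal, coHom, Category.assoc, pullback.condition]
  · intro i j e
    induction i using Fin.cases with
    | zero =>
      induction j using Fin.cases with
      | zero => rfl
      | succ j =>
        simp only [Fin.cases_zero, Fin.cases_succ, Category.assoc] at e
        rw [← hq j] at e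
        exact absurd e.symm (ne_coVal hC (q j))
    | succ i =>
      induction j using Fin.cases with
      | zero =>
        simp only [Fin.cases_zero, Fin.cases_succ, Category.assoc] at e
        rw [← hq i] at e
        exact absurd e (ne_coVal hC (q i))
      | succ j =>
        simp only [Fin.cases_succ, Category.assoc] at e
        rw [hinj e]

theorem HasPts.pred {f : X ⟶ W} {h : X ⟶ V} {C : (pullback f f).Opens} (hC : IsEqLocus f h C)
    {n : ℕ} {K : Type u} [Field K] {s : Spec (.of K) ⟶ W} (H : HasPts f h (n + 1) K s) :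
    ∃ y : Spec (.of K) ⟶ X, y ≫ f = s ∧ HasPts (coHom hC) (coVal hC ≫ h) n K y := by
  obtain ⟨x, hx, hinj⟩ := H
  have w : ∀ i : Fin n, x i.succ ≫ f = x 0 ≫ f := fun i => (hx _).trans (hx 0).symm
  have hr : ∀ i : Fin n, Set.range (pullback.lift (x i.succ) (x 0) (w i)) ⊆
      Set.range (coOpens hC).ι := by
    intro i
    rw [Scheme.Opens.range_ι, range_spec_eq, Set.singleton_subset_iff]
    intro hmem
    exact Fin.succ_ne_zero i (hinj ((hC.eq_iff_mem _ _ (w i)).2 hmem))
  refine ⟨x 0, hx 0, fun i => IsOpenImmersion.lift (coOpens hC).ι _ (hr i), fun i => ?_,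
    fun i j e => ?_⟩
  · rw [IsOpenImmersion.lift_fac_assoc, pullback.lift_snd]
  · simp only [coVal, Category.assoc, IsOpenImmersion.lift_fac_assoc, pullback.lift_fst_assoc] at e
    exact Fin.succ_inj.1 (hinj e)

theorem exists_isOpen_hasPts (n : ℕ) : ∀ {X W : Scheme.{u}} (f : X ⟶ W) [Flat f]
    [LocallyOfFinitePresentation f] (h : X ⟶ V) (C : (pullback f f).Opens), IsEqLocus f h C →
    ∃ O : Set W, IsOpen O ∧ ∀ (K : Type u) [Field K] [IsAlgClosed K] (s : Spec (.of K) ⟶ W),
      HasPts f h n K s ↔ s (pt K) ∈ O := by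
  induction n with
  | zero =>
    intro X W f _ _ h C _
    refine ⟨Set.univ, isOpen_univ, fun K _ _ s => ⟨fun _ => Set.mem_univ _, fun _ => ?_⟩⟩
    exact ⟨Fin.elim0, fun i => i.elim0, fun i => i.elim0⟩
  | succ n ih =>
    intro X W f _ _ h C hC
    obtain ⟨C', hC'⟩ := exists_isEqLocus_coHom hC
    obtain ⟨O, hO, hOp⟩ := ih (coHom hC) (coVal hC ≫ h) C' hC'
    refine ⟨f '' O, f.isOpenMap O hO, fun K _ _ s => ⟨fun H => ?_, ?_⟩⟩
    · obtain ⟨y, rfl, hy⟩ := H.pred hC
      exact ⟨_, (hOp K y).1 hy, (Scheme.Hom.comp_apply _ _ _).symm⟩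
    · rintro ⟨z, hz, hzs⟩
      obtain ⟨t, ht, -⟩ := Scheme.Pullback.exists_preimage_pullback z
        (pt K) hzs
      haveI : JacobsonSpace ↥(pullback f s) :=
        LocallyOfFiniteType.jacobsonSpace (pullback.snd f s)
      obtain ⟨x, hxO, hx⟩ := nonempty_inter_closedPoints
        (Z := pullback.fst f s ⁻¹' O) ⟨t, by rw [Set.mem_preimage, ht]; exact hz⟩
        (hO.preimage (pullback.fst f s).continuous).isLocallyClosed
      have hx' : IsClosed {x} := hx
      let y := pointOfClosedPoint (pullback.snd f s) x hx' ≫ pullback.fst f s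
      have hy : y ≫ f = s := by
        simp only [y, Category.assoc, pullback.condition]
        rw [pointOfClosedPoint_comp_assoc]
      rw [← hy]
      exact HasPts.succ hC ((hOp K y).2 (by
        rw [Scheme.Hom.comp_apply, pointOfClosedPoint_apply]; exact hxO))

/-- The number of distinct values of `h` on the geometric fibres is bounded. -/
theorem exists_bound_hasPts [IsNoetherian W] (f : X ⟶ W) [Flat f]
    [LocallyOfFinitePresentation f] [QuasiCompact f] (h : X ⟶ V) (C : (pullback f f).Opens)
    (hC : IsEqLocus f h C) :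
    ∃ n, ∀ (K : Type u) [Field K] [IsAlgClosed K] (s : Spec (.of K) ⟶ W),
      ¬ HasPts f h n K s := by
  by_contra hne
  push Not at hne
  have hfin := TopologicalSpace.NoetherianSpace.finite_irreducibleComponents (α := ↥W)
  have hg : ∀ n, ∃ Z : irreducibleComponents ↥W, ∀ (K : Type u) [Field K] [IsAlgClosed K]
      (s : Spec (.of K) ⟶ W), s (pt K) = Z.2.1.genericPoint →
        HasPts f h n K s := by
    intro n
    obtain ⟨O, hO, hOp⟩ := exists_isOpen_hasPts n f h C hC
    obtain ⟨K, _, _, s, hs⟩ := hne n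
    let x := s (pt K)
    have hxO : x ∈ O := (hOp K s).1 hs
    refine ⟨⟨irreducibleComponent x, irreducibleComponent_mem_irreducibleComponents x⟩,
      fun K' _ _ s' hs' => (hOp K' s').2 ?_⟩
    rw [hs']
    refine Specializes.mem_open ?_ hO hxO
    refine specializes_iff_mem_closure.2 ?_
    have hcl := (irreducibleComponent_mem_irreducibleComponents x).1.isGenericPoint_genericPoint
      isClosed_irreducibleComponent
    rw [hcl.def]
    exact mem_irreducibleComponent
  choose Z hZ using hg
  haveI : Finite (irreducibleComponents ↥W) := hfin.to_subtype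
  obtain ⟨Z₀, hZ₀⟩ := Finite.exists_infinite_fiber Z
  let η : W := Z₀.2.1.genericPoint
  let K := AlgebraicClosure (W.residueField η)
  let s : Spec (.of K) ⟶ W :=
    Spec.map (CommRingCat.ofHom (algebraMap (W.residueField η) K)) ≫ W.fromSpecResidueField η
  have hs : s (pt K) = η := by
    rw [Scheme.Hom.comp_apply, Scheme.fromSpecResidueField_apply]
  let XK := pullback f s
  haveI : IsLocallyNoetherian XK := LocallyOfFiniteType.isLocallyNoetherian (pullback.snd f s)
  haveI : CompactSpace XK := QuasiCompact.compactSpace_of_compactSpace (pullback.snd f s)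
  haveI : IsNoetherian XK := {}
  haveI : JacobsonSpace ↥XK := LocallyOfFiniteType.jacobsonSpace (pullback.snd f s)
  have hfinK := TopologicalSpace.NoetherianSpace.finite_irreducibleComponents (α := ↥XK)
  haveI : Fintype (irreducibleComponents ↥XK) := hfinK.fintype
  obtain ⟨n, hn, hlt⟩ := (Set.infinite_coe_iff.1 hZ₀).exists_gt
    (Fintype.card (irreducibleComponents ↥XK))
  obtain ⟨x, hx, hinj⟩ := hZ n K s (by
    rw [hs]
    show η = (Z n).2.1.genericPoint
    rw [show Z n = Z₀ from hn])
  let P : Fin n → (Spec (.of K) ⟶ XK) := fun i =>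
    pullback.lift (x i) (𝟙 _) ((hx i).trans (Category.id_comp s).symm)
  let p : Fin n → XK := fun i => P i (pt K)
  have wN : ∀ i, pullback.fst f s ≫ f = (pullback.snd f s ≫ x i) ≫ f := fun i => by
    rw [Category.assoc, hx, pullback.condition]
  let N : Fin n → XK.Opens := fun i =>
    pullback.lift (pullback.fst f s) (pullback.snd f s ≫ x i) (wN i) ⁻¹ᵁ C
  have hpN : ∀ i, p i ∈ N i := by
    intro i
    have hl : P i ≫ pullback.lift (pullback.fst f s) (pullback.snd f s ≫ x i) (wN i) =
        pullback.lift (x i) (x i) rfl := pullback.hom_ext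
          (by simp only [P, Category.assoc, pullback.lift_fst])
          (by simp only [P, Category.assoc, pullback.lift_snd, pullback.lift_snd_assoc,
            Category.id_comp])
    show pullback.lift _ _ (wN i) (P i (pt K)) ∈ C
    rw [← Scheme.Hom.comp_apply, hl]
    exact hC.lift_self_mem _ _ _
  let comp : Fin n → irreducibleComponents ↥XK := fun i =>
    ⟨irreducibleComponent (p i), irreducibleComponent_mem_irreducibleComponents _⟩
  have hcard := Fintype.card_le_of_injective comp ?_
  · rw [Fintype.card_fin] at hcard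
    omega
  intro i j e
  have e' : irreducibleComponent (p i) = irreducibleComponent (p j) := congrArg Subtype.val e
  have hne := (irreducibleComponent_mem_irreducibleComponents (p i)).1.isPreirreducible
    (N i) (N j) (N i).isOpen (N j).isOpen ⟨p i, mem_irreducibleComponent, hpN i⟩
    ⟨p j, e' ▸ mem_irreducibleComponent, hpN j⟩
  obtain ⟨z, ⟨-, hzi, hzj⟩, hz⟩ := nonempty_inter_closedPoints hne
    (isClosed_irreducibleComponent.isLocallyClosed.inter
      ((N i).isOpen.inter (N j).isOpen).isLocallyClosed)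
  have hz' : IsClosed {z} := hz
  let q := pointOfClosedPoint (pullback.snd f s) z hz'
  have key : ∀ k, z ∈ N k → (q ≫ pullback.fst f s) ≫ h = x k ≫ h := by
    intro k hk
    have w : (q ≫ pullback.fst f s) ≫ f = x k ≫ f := by
      rw [Category.assoc, pullback.condition, hx, pointOfClosedPoint_comp_assoc]
    refine (hC.eq_iff_mem _ _ w).2 ?_
    have hl : q ≫ pullback.lift (pullback.fst f s) (pullback.snd f s ≫ x k) (wN k) =
        pullback.lift (q ≫ pullback.fst f s) (x k) w :=
      pullback.hom_ext (by simp only [Category.assoc, pullback.lift_fst])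
        (by simp only [q, Category.assoc, pullback.lift_snd, pointOfClosedPoint_comp_assoc])
    rw [← hl, Scheme.Hom.comp_apply, pointOfClosedPoint_apply]
    exact hk
  exact hinj ((key i hzi).symm.trans (key j hzj))

end Groth.Agent.Lib.EtHull9
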