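import Groth.Agent.Lib.EtHull9.Quot
import Groth.Agent.Lib.EtHull9.Clopen
import Mathlib.AlgebraicGeometry.RelativeGluing
import Mathlib.RingTheory.Etale.Kaehler

/-!
# Factoring maps to formally unramified schemes through étale monomorphisms

For `a : X ⟶ S` flat of finite type over a Noetherian scheme, `b : Y ⟶ S` formally unramified and
`h : X ⟶ Y` over `S`, there is a factorization `X ⟶ E ⟶ Y` with `X ⟶ E` fppf, `E ⟶ S` étale and
`E ⟶ Y` a monomorphism.
-/

set_option autoImplicit false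
set_option linter.style.haveILetI false
set_option backward.isDefEq.respectTransparency.types false
set_option backward.isDefEq.respectTransparency false

universe u

open CategoryTheory CategoryTheory.Limits AlgebraicGeometry TopologicalSpace
open Groth.Agent.Lib

noncomputable section

namespace Groth.Agent.Lib.EtHull9

/-- An effective epimorphism followed by any map is initial among the factorizations of the composite
through monomorphisms. -/
theorem existsUnique_fac {X E E' Y : Scheme.{u}} (u : X ⟶ E) [EffectiveEpi u] (m : E ⟶ Y)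
    (u' : X ⟶ E') (m' : E' ⟶ Y) [Mono m'] (e : u' ≫ m' = u ≫ m) :
    ∃! i : E ⟶ E', u ≫ i = u' ∧ i ≫ m' = m := by
  have hu : ∀ {T : Scheme.{u}} (c d : T ⟶ X), c ≫ u = d ≫ u → c ≫ u' = d ≫ u' := fun c d hcd => by
    rw [← cancel_mono m', Category.assoc, Category.assoc, e, reassoc_of% hcd]
  refine ⟨EffectiveEpi.desc u u' (fun c d => hu c d), ⟨EffectiveEpi.fac _ _ _, ?_⟩, ?_⟩
  · rw [← cancel_epi u, EffectiveEpi.fac_assoc, e]
  · rintro i ⟨hi, -⟩
    rw [← cancel_epi u, hi, EffectiveEpi.fac]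

variable {X Y S : Scheme.{u}} (a : X ⟶ S) (b : Y ⟶ S) (h : X ⟶ Y)

/-- A factorization of `h` over the open `V` of `Y`. -/
structure Piece (V : Y.Opens) where
  E : Scheme.{u}
  u : ((h ⁻¹ᵁ V : X.Opens) : Scheme.{u}) ⟶ E
  m : E ⟶ (V : Scheme.{u})
  fac : u ≫ m = h ∣_ V
  etale : Etale (m ≫ V.ι ≫ b)
  flat : Flat u
  surj : Surjective u
  mono : Mono m

attribute [instance] Piece.flat Piece.surj Piece.mono

theorem nonempty_piece [IsNoetherian X] [IsNoetherian S] [Flat a]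
    [LocallyOfFinitePresentation a] [FormallyUnramified b] (w : h ≫ b = a)
    (V : Y.affineOpens) : Nonempty (Piece b h V.1) := by
  let XV : X.Opens := h ⁻¹ᵁ V.1
  haveI : IsLocallyNoetherian XV := LocallyOfFiniteType.isLocallyNoetherian XV.ι
  haveI : CompactSpace XV := QuasiCompact.compactSpace_of_compactSpace XV.ι
  haveI : IsNoetherian XV := {}
  let f : (XV : Scheme.{u}) ⟶ S := XV.ι ≫ a
  let hV : (XV : Scheme.{u}) ⟶ V.1 := h ∣_ V.1
  have wV : hV ≫ V.1.ι ≫ b = f := by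
    simp only [hV, f, morphismRestrict_ι_assoc, w, XV]
  haveI : IsAffine (V.1 : Scheme.{u}) := V.2
  haveI : IsSeparated ((V.1.ι ≫ b) ≫ terminal.from S) := by
    rw [Subsingleton.elim ((V.1.ι ≫ b) ≫ terminal.from S) (terminal.from _)]
    infer_instance
  haveI : IsSeparated (V.1.ι ≫ b) := IsSeparated.of_comp _ (terminal.from S)
  haveI : IsLocallyNoetherian (pullback f f) :=
    LocallyOfFiniteType.isLocallyNoetherian (pullback.snd f f)
  haveI : FormallyUnramified (V.1.ι ≫ b) :=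
    MorphismProperty.comp_mem @FormallyUnramified _ _ inferInstance ‹_›
  obtain ⟨C, hC⟩ := exists_isEqLocus f hV (V.1.ι ≫ b) wV
  obtain ⟨E, π, g, hQ⟩ := exists_quot f hV C hC
  haveI := hQ.flat
  haveI := hQ.surj
  haveI : QuasiCompact π := inferInstance
  let m : E ⟶ (V.1 : Scheme.{u}) := EffectiveEpi.desc π hV (fun c d e => ((hQ.ker c d).1 e).2)
  have hm : π ≫ m = hV := EffectiveEpi.fac _ _ _
  have hmg : m ≫ V.1.ι ≫ b = g := by rw [← cancel_epi π, reassoc_of% hm, wV, hQ.fac]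
  refine ⟨⟨E, π, m, hm, hmg ▸ hQ.etale, hQ.flat, hQ.surj, ⟨fun {T} c d e => ?_⟩⟩⟩
  let p := pullback.fst c π
  let q := pullback.fst (p ≫ d) π
  rw [← cancel_epi p, ← cancel_epi q]
  have hc : (q ≫ pullback.snd c π) ≫ π = q ≫ p ≫ c := by
    simp only [p, Category.assoc, pullback.condition]
  have hd : pullback.snd (p ≫ d) π ≫ π = q ≫ p ≫ d := (pullback.condition).symm
  rw [← hc, ← hd]
  refine (hQ.ker _ _).2 ⟨?_, ?_⟩
  · rw [← hQ.fac, ← hmg, ← Category.assoc (q ≫ pullback.snd c π), hc,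
      ← Category.assoc (pullback.snd (p ≫ d) π), hd]
    simp only [Category.assoc, reassoc_of% e]
  · rw [← hm, ← Category.assoc (q ≫ pullback.snd c π), hc,
      ← Category.assoc (pullback.snd (p ≫ d) π), hd]
    simp only [Category.assoc, e]

variable {b h}

theorem Piece.effectiveEpi [IsNoetherian X] {V : Y.Opens} (P : Piece b h V) : EffectiveEpi P.u := by
  haveI : IsLocallyNoetherian (h ⁻¹ᵁ V : X.Opens) :=
    LocallyOfFiniteType.isLocallyNoetherian (h ⁻¹ᵁ V).ι
  haveI : CompactSpace (h ⁻¹ᵁ V : X.Opens) :=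
    QuasiCompact.compactSpace_of_compactSpace (h ⁻¹ᵁ V).ι
  haveI : IsNoetherian (h ⁻¹ᵁ V : X.Opens) := {}
  infer_instance

theorem Piece.exists_hom [IsNoetherian X] {V V' : Y.Opens} (P : Piece b h V) (P' : Piece b h V')
    (le : V ≤ V') : ∃ t : P.E ⟶ P'.E, t ≫ P'.m = P.m ≫ Y.homOfLE le := by
  haveI := P.effectiveEpi
  let j : ((h ⁻¹ᵁ V : X.Opens) : Scheme.{u}) ⟶ (h ⁻¹ᵁ V' : X.Opens) :=
    X.homOfLE (h.preimage_mono le)
  have e : (j ≫ P'.u) ≫ P'.m = P.u ≫ P.m ≫ Y.homOfLE le := by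
    rw [Category.assoc, P'.fac, reassoc_of% P.fac, ← cancel_mono V'.ι]
    simp only [j, Category.assoc, morphismRestrict_ι, Scheme.homOfLE_ι, Scheme.homOfLE_ι_assoc]
  obtain ⟨t, ⟨-, ht⟩, -⟩ := existsUnique_fac P.u (P.m ≫ Y.homOfLE le) (j ≫ P'.u) P'.m e
  exact ⟨t, ht⟩

theorem Piece.isPullback_hom [IsNoetherian X] {V V' : Y.Opens} (P : Piece b h V)
    (P' : Piece b h V') (le : V ≤ V') (t : P.E ⟶ P'.E) (ht : t ≫ P'.m = P.m ≫ Y.homOfLE le) :
    IsPullback t P.m P'.m (Y.homOfLE le) := by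
  haveI := P'.effectiveEpi
  haveI : IsLocallyNoetherian (h ⁻¹ᵁ V' : X.Opens) :=
    LocallyOfFiniteType.isLocallyNoetherian (h ⁻¹ᵁ V').ι
  haveI : CompactSpace (h ⁻¹ᵁ V' : X.Opens) :=
    QuasiCompact.compactSpace_of_compactSpace (h ⁻¹ᵁ V').ι
  haveI : IsNoetherian (h ⁻¹ᵁ V' : X.Opens) := {}
  let Q := pullback P'.m (Y.homOfLE le)
  let u'' : pullback P'.u (pullback.fst P'.m (Y.homOfLE le)) ⟶ Q := pullback.snd _ _
  haveI : QuasiCompact P'.u := inferInstance
  haveI : Flat u'' := inferInstance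
  haveI : Surjective u'' := inferInstance
  haveI : QuasiCompact u'' := inferInstance
  let v : pullback P'.u (pullback.fst P'.m (Y.homOfLE le)) ⟶ X :=
    pullback.fst _ _ ≫ (h ⁻¹ᵁ V').ι
  have hv : v ≫ h = u'' ≫ pullback.snd P'.m (Y.homOfLE le) ≫ V.ι := by
    simp only [v, u'', Category.assoc]
    rw [← morphismRestrict_ι h V', ← P'.fac, Category.assoc, pullback.condition_assoc,
      pullback.condition_assoc, Scheme.homOfLE_ι]
  have hvr : Set.range v ⊆ Set.range (h ⁻¹ᵁ V).ι := by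
    rw [Scheme.Opens.range_ι]
    rintro _ ⟨x, rfl⟩
    change h (v x) ∈ V
    rw [← Scheme.Hom.comp_apply, hv, Scheme.Hom.comp_apply, Scheme.Hom.comp_apply]
    exact Subtype.coe_prop _
  let l := IsOpenImmersion.lift (h ⁻¹ᵁ V).ι v hvr
  have e : (l ≫ P.u) ≫ P.m = u'' ≫ pullback.snd P'.m (Y.homOfLE le) := by
    rw [Category.assoc, P.fac, ← cancel_mono V.ι]
    simp only [Category.assoc, morphismRestrict_ι]
    rw [IsOpenImmersion.lift_fac_assoc, hv]
  obtain ⟨r, ⟨-, hr⟩, -⟩ := existsUnique_fac u'' (pullback.snd P'.m (Y.homOfLE le)) (l ≫ P.u) P.m e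
  refine IsPullback.of_iso_pullback ⟨ht⟩ ⟨pullback.lift t P.m ht, r, ?_, ?_⟩
    (pullback.lift_fst _ _ _) (pullback.lift_snd _ _ _)
  · rw [← cancel_mono P.m, Category.assoc, hr, pullback.lift_snd, Category.id_comp]
  · rw [← cancel_mono (pullback.snd P'.m (Y.homOfLE le)), Category.assoc, pullback.lift_snd, hr,
      Category.id_comp]

variable (b h)

section Glue

variable [IsNoetherian X] (P : ∀ V : Y.affineOpens, Piece b h V.1)

/-- The transition map of the pieces. -/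
def transHom {i j : Y.directedAffineCover.I₀} (f : i ⟶ j) : (P i).E ⟶ (P j).E :=
  ((P i).exists_hom (P j) (leOfHom f)).choose

theorem transHom_m {i j : Y.directedAffineCover.I₀} (f : i ⟶ j) :
    transHom b h P f ≫ (P j).m = (P i).m ≫ Y.homOfLE (leOfHom f) :=
  ((P i).exists_hom (P j) (leOfHom f)).choose_spec

/-- The gluing datum of the pieces. -/
def gluingDatum : Y.directedAffineCover.RelativeGluingData where
  functor :=
    { obj := fun i => (P i).E
      map := fun f => transHom b h P f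
      map_id := fun i => by
        rw [← cancel_mono (P i).m, transHom_m, Category.id_comp, Scheme.homOfLE_rfl,
          Category.comp_id]
      map_comp := fun {i j k} f g => by
        rw [← cancel_mono (P k).m, transHom_m, Category.assoc, transHom_m,
          reassoc_of% transHom_m b h P f, Scheme.homOfLE_homOfLE] }
  natTrans :=
    { app := fun i => (P i).m
      naturality := fun i j f => transHom_m b h P f }
  equifibered := fun i j f => (P i).isPullback_hom (P j) (leOfHom f) _ (transHom_m b h P f)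

end Glue

/-- The factorization of `h` through an étale monomorphism. -/
theorem exists_factorization [IsNoetherian X] [IsNoetherian S] [Flat a]
    [LocallyOfFinitePresentation a] [FormallyUnramified b] (w : h ≫ b = a) :
    ∃ (E : Scheme.{u}) (u : X ⟶ E) (m : E ⟶ Y), Etale (m ≫ b) ∧ Flat u ∧ Surjective u ∧
      LocallyOfFinitePresentation u ∧ QuasiCompact u ∧ QuasiSeparated u ∧ Mono m ∧
      LocallyOfFiniteType m ∧ QuasiCompact m ∧ IsNoetherian E ∧ u ≫ m = h := by
  let P : ∀ V : Y.affineOpens, Piece b h V.1 := fun V => (nonempty_piece a b h w V).some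
  let d := gluingDatum b h P
  let m : d.glued ⟶ Y := d.toBase
  let ιE : ∀ i : Y.directedAffineCover.I₀, (P i).E ⟶ d.glued := fun i => colimit.ι d.functor i
  have hι : ∀ i, ιE i ≫ m = (P i).m ≫ i.1.ι := fun i => d.ι_toBase i
  have hpb : ∀ i : Y.directedAffineCover.I₀, IsPullback (P i).m (ιE i) i.1.ι m := fun i =>
    d.isPullback_natTrans_ι_toBase i
  haveI hm : Mono m := by
    refine ⟨fun {T} c e hce => Scheme.hom_ext_of_forall _ _ fun t => ?_⟩
    obtain ⟨V, hV⟩ : ∃ V : Y.affineOpens, m (c t) ∈ V.1 := by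
      obtain ⟨_, ⟨V, hV, rfl⟩, hm, -⟩ := Y.isBasis_affineOpens.exists_subset_of_mem_open
        (Set.mem_univ (m (c t))) isOpen_univ
      exact ⟨⟨V, hV⟩, hm⟩
    let U : T.Opens := (c ≫ m) ⁻¹ᵁ V.1
    refine ⟨U, by simpa [U] using hV, ?_⟩
    let k : (U : Scheme.{u}) ⟶ V.1 := (c ≫ m) ∣_ V.1
    have hk : k ≫ V.1.ι = U.ι ≫ c ≫ m := morphismRestrict_ι _ _
    let lc := (hpb V).lift k (U.ι ≫ c) (by rw [hk, Category.assoc])
    let le' := (hpb V).lift k (U.ι ≫ e) (by rw [hk, hce, Category.assoc])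
    have h2 : lc = le' := by
      rw [← cancel_mono (P V).m, (hpb V).lift_fst, (hpb V).lift_fst]
    have h3 := congrArg (· ≫ ιE V) h2
    simpa only [lc, le', (hpb V).lift_snd] using h3
  let 𝒲 : X.OpenCover := Scheme.openCoverOfIsOpenCover X
    (fun V : Y.affineOpens => h ⁻¹ᵁ V.1) (by
      refine TopologicalSpace.IsOpenCover.mk (top_le_iff.1 fun x _ => ?_)
      obtain ⟨_, ⟨V, hV, rfl⟩, hm, -⟩ := Y.isBasis_affineOpens.exists_subset_of_mem_open
        (Set.mem_univ (h x)) isOpen_univ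
      exact Opens.mem_iSup.2 ⟨⟨V, hV⟩, hm⟩)
  have hu0 : ∀ V : Y.affineOpens, (P V).u ≫ ιE V ≫ m = (h ⁻¹ᵁ V.1).ι ≫ h := fun V => by
    rw [hι, reassoc_of% (P V).fac, morphismRestrict_ι]
  let u : X ⟶ d.glued := 𝒲.glueMorphisms (fun V : Y.affineOpens => (P V).u ≫ ιE V) fun V V' => by
    rw [← cancel_mono m]
    simp only [Category.assoc, hu0]
    exact pullback.condition_assoc h
  have hιu : ∀ V : Y.affineOpens, (h ⁻¹ᵁ V.1).ι ≫ u = (P V).u ≫ ιE V := fun V =>
    𝒲.ι_glueMorphisms _ _ V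
  have hum : u ≫ m = h := by
    refine 𝒲.hom_ext _ _ fun (V : Y.affineOpens) => ?_
    change (h ⁻¹ᵁ V.1).ι ≫ u ≫ m = (h ⁻¹ᵁ V.1).ι ≫ h
    rw [reassoc_of% hιu V, hu0]
  haveI : Etale (m ≫ b) := by
    rw [IsZariskiLocalAtSource.iff_of_openCover (P := @Etale) d.cover]
    intro (i : Y.directedAffineCover.I₀)
    change Etale (ιE i ≫ m ≫ b)
    rw [reassoc_of% hι i]
    exact (P i).etale
  haveI : Flat (u ≫ m ≫ b) := by rw [reassoc_of% hum, w]; infer_instance
  haveI : Flat u := StCurv.flat_of_comp_etale u (m ≫ b)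
  haveI : Surjective u := ⟨fun y => by
    obtain ⟨i, z, rfl⟩ := d.cover.exists_eq y
    obtain ⟨x, rfl⟩ := (P i).u.surjective z
    refine ⟨(h ⁻¹ᵁ i.1).ι x, ?_⟩
    rw [← Scheme.Hom.comp_apply, hιu i, Scheme.Hom.comp_apply]
    rfl⟩
  haveI : LocallyOfFiniteType (u ≫ m ≫ b) := by rw [reassoc_of% hum, w]; infer_instance
  haveI : LocallyOfFiniteType u := locallyOfFiniteType_of_comp u (m ≫ b)
  haveI : IsLocallyNoetherian d.glued := LocallyOfFiniteType.isLocallyNoetherian (m ≫ b)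
  haveI : CompactSpace d.glued := u.surjective.compactSpace u.continuous
  haveI hE : IsNoetherian d.glued := {}
  haveI : LocallyOfFinitePresentation u :=
    LocallyOfFinitePresentation.iff_locallyOfFiniteType.mpr ‹_›
  exact ⟨d.glued, u, m, ‹_›, ‹_›, ‹_›, ‹_›, inferInstance, inferInstance, hm,
    locallyOfFiniteType_of_comp m b, inferInstance, hE, hum⟩

theorem subsingleton_of_span {A : Type u} [CommRing A] {M : Type u} [AddCommGroup M]
    [Module A M] (s : Set A) (hs : Ideal.span s = ⊤)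
    (hloc : ∀ g ∈ s, ∀ y : M, ∃ n : ℕ, g ^ n • y = 0) : Subsingleton M := by
  refine subsingleton_of_forall_eq 0 fun y => ?_
  let J : Ideal A := LinearMap.ker (LinearMap.toSpanSingleton A M y)
  have hJ : J = ⊤ := by
    by_contra hne
    obtain ⟨Q, hQ, hJQ⟩ := Ideal.exists_le_maximal J hne
    refine hQ.ne_top (top_le_iff.1 ?_)
    rw [← hs, Ideal.span_le]
    intro g hg
    obtain ⟨n, hn⟩ := hloc g hg y
    exact hQ.isPrime.mem_of_pow_mem n (hJQ (by simpa [J] using hn))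
  have : (1 : A) ∈ J := by rw [hJ]; trivial
  simpa [J] using this

theorem formallyEtale_of_span {B A : Type u} [CommRing B] [CommRing A] [Algebra B A]
    (s : Set A) (hs : Ideal.span s = ⊤)
    (H : ∀ g ∈ s, ∃ (T : Type u) (_ : CommRing T) (_ : Algebra B T) (_ : Algebra A T)
      (_ : IsScalarTower B A T), IsLocalization.Away g T ∧ Algebra.FormallyEtale B T) :
    Algebra.FormallyEtale B A := by
  refine ⟨subsingleton_of_span s hs fun g hg y => ?_, subsingleton_of_span s hs fun g hg y => ?_⟩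
  · obtain ⟨T, _, _, _, _, _, _⟩ := H g hg
    obtain ⟨⟨_, n, rfl⟩, hn⟩ := (IsLocalizedModule.eq_zero_iff (Submonoid.powers g)
      (KaehlerDifferential.map B B A T) (m := y)).1 (Subsingleton.elim _ _)
    exact ⟨n, hn⟩
  · obtain ⟨T, _, _, _, _, _, _⟩ := H g hg
    obtain ⟨⟨_, n, rfl⟩, hn⟩ := (IsLocalizedModule.eq_zero_iff (Submonoid.powers g)
      (Algebra.H1Cotangent.map B B A T) (m := y)).1 (Subsingleton.elim _ _)
    exact ⟨n, hn⟩

/-- Maps to a formally unramified scheme which are étale over the base are formally étale. -/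
theorem formallyEtale_appLE {E : Scheme.{u}} (m : E ⟶ Y) [FormallyUnramified b] [Etale (m ≫ b)]
    {V : Y.Opens} (hV : IsAffineOpen V) {U : E.Opens} (hU : IsAffineOpen U) (e : U ≤ m ⁻¹ᵁ V) :
    (m.appLE V U e).hom.FormallyEtale := by
  let s : Set Γ(E, U) := {g | ∃ (W : S.Opens) (f : Γ(Y, V)), IsAffineOpen W ∧
    Y.basicOpen f ≤ b ⁻¹ᵁ W ∧ E.basicOpen g ≤ m ⁻¹ᵁ Y.basicOpen f}
  have hs : Ideal.span s = ⊤ := by
    rw [← hU.iSup_basicOpen_eq_self_iff]
    refine le_antisymm (iSup_le fun g => E.basicOpen_le _) fun x hx => ?_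
    obtain ⟨_, ⟨W, hW, rfl⟩, hxW, -⟩ := S.isBasis_affineOpens.exists_subset_of_mem_open
      (Set.mem_univ (b (m x))) isOpen_univ
    obtain ⟨f, hf, hxf⟩ := hV.exists_basicOpen_le (V := b ⁻¹ᵁ W) ⟨m x, hxW⟩ (e hx)
    obtain ⟨g, hg, hxg⟩ := hU.exists_basicOpen_le (V := m ⁻¹ᵁ Y.basicOpen f) ⟨x, hxf⟩ hx
    exact Opens.mem_iSup.2 ⟨⟨g, W, f, hW, hf, hg⟩, hxg⟩
  algebraize [(m.appLE V U e).hom]
  refine formallyEtale_of_span s hs fun g hg => ?_
  obtain ⟨W, f, hW, hf, hgf⟩ := hg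
  have hgW : E.basicOpen g ≤ (m ≫ b) ⁻¹ᵁ W := fun x hx => hf (hgf hx)
  have h1 := FormallyUnramified.formallyUnramified_appLE b hW (hV.basicOpen f) hf
  have h2 := Etale.etale_appLE (m ≫ b) hW (hU.basicOpen g) hgW
  let φ := b.appLE W (Y.basicOpen f) hf
  let ψ := m.appLE (Y.basicOpen f) (E.basicOpen g) hgf
  have hφψ : (m ≫ b).appLE W (E.basicOpen g) hgW = φ ≫ ψ :=
    (Scheme.Hom.appLE_comp_appLE m b W (Y.basicOpen f) (E.basicOpen g) hf hgf).symm
  rw [hφψ] at h2
  letI : Algebra Γ(S, W) Γ(Y, Y.basicOpen f) := φ.hom.toAlgebra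
  letI : Algebra Γ(Y, Y.basicOpen f) Γ(E, E.basicOpen g) := ψ.hom.toAlgebra
  letI : Algebra Γ(S, W) Γ(E, E.basicOpen g) := (φ ≫ ψ).hom.toAlgebra
  haveI : IsScalarTower Γ(S, W) Γ(Y, Y.basicOpen f) Γ(E, E.basicOpen g) :=
    IsScalarTower.of_algebraMap_eq fun _ => rfl
  haveI : Algebra.FormallyUnramified Γ(S, W) Γ(Y, Y.basicOpen f) := h1
  haveI : Algebra.Etale Γ(S, W) Γ(E, E.basicOpen g) := h2
  haveI : Algebra.FormallyEtale Γ(Y, Y.basicOpen f) Γ(E, E.basicOpen g) :=
    Algebra.FormallyEtale.of_restrictScalars (R := Γ(S, W))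
  haveI := hV.isLocalization_basicOpen f
  haveI := hU.isLocalization_basicOpen g
  haveI : Algebra.FormallyEtale Γ(Y, V) Γ(Y, Y.basicOpen f) :=
    Algebra.FormallyEtale.of_isLocalization (Submonoid.powers f)
  letI : Algebra Γ(Y, V) Γ(E, E.basicOpen g) :=
    (ψ.hom.comp (algebraMap Γ(Y, V) Γ(Y, Y.basicOpen f))).toAlgebra
  haveI : IsScalarTower Γ(Y, V) Γ(Y, Y.basicOpen f) Γ(E, E.basicOpen g) :=
    IsScalarTower.of_algebraMap_eq fun _ => rfl
  haveI : IsScalarTower Γ(Y, V) Γ(E, U) Γ(E, E.basicOpen g) := by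
    refine IsScalarTower.of_algebraMap_eq fun x => ?_
    have hh : Y.presheaf.map (homOfLE (Y.basicOpen_le f)).op ≫ ψ =
        m.appLE V U e ≫ E.presheaf.map (homOfLE (E.basicOpen_le g)).op := by
      simp only [ψ, Scheme.Hom.map_appLE, Scheme.Hom.appLE_map]
    exact congrArg (fun k => k.hom x) hh
  exact ⟨_, inferInstance, inferInstance, inferInstance, inferInstance, inferInstance,
    Algebra.FormallyEtale.comp Γ(Y, V) Γ(Y, Y.basicOpen f) Γ(E, E.basicOpen g)⟩

end Groth.Agent.Lib.EtHull9
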