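import Groth.Agent.Lib.EtHull9.Points
import Groth.Agent.S5161
import Mathlib.RingTheory.Ideal.Height

/-!
# Existence of finest admissible factorizations in classes stable under suprema
-/

set_option autoImplicit false
set_option linter.style.haveILetI false

universe u

open CategoryTheory CategoryTheory.Limits AlgebraicGeometry TopologicalSpace

noncomputable section

namespace Groth.Agent.Lib.EtHull9

variable {X S : Scheme.{u}} {f : X ⟶ S}

/-- The generic points of the complement of the image. -/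
def Gaps (A : Fac f) : Type u :=
  {z : A.E // z ∉ Set.range A.u ∧ ∀ y : A.E, y ⤳ z → y ∉ Set.range A.u → y = z}

theorem isOpen_range_u [IsNoetherian S] [Flat f] [LocallyOfFinitePresentation f] (A : Fac f) :
    IsOpen (Set.range A.u) := by
  haveI : LocallyOfFinitePresentation (A.u ≫ A.g) := A.fac.symm ▸ ‹LocallyOfFinitePresentation f›
  haveI : LocallyOfFiniteType (A.u ≫ A.g) := inferInstance
  haveI : LocallyOfFiniteType A.u := locallyOfFiniteType_of_comp A.u A.g
  haveI : IsLocallyNoetherian A.E := inferInstance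
  haveI : LocallyOfFinitePresentation A.u :=
    LocallyOfFinitePresentation.iff_locallyOfFiniteType.2 inferInstance
  exact A.u.isOpenMap.isOpen_range

theorem finite_gaps [IsNoetherian S] [Flat f] [LocallyOfFinitePresentation f] (A : Fac f) :
    Finite (Gaps A) := by
  obtain ⟨T, hTf, hTc, hTi, hT⟩ :=
    TopologicalSpace.NoetherianSpace.exists_finite_set_isClosed_irreducible
      (isOpen_range_u A).isClosed_compl
  haveI := hTf.to_subtype
  have key : ∀ z : Gaps A, ∃ t : T, IsGenericPoint z.1 (t.1 : Set A.E) := by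
    rintro ⟨z, hz, hzm⟩
    obtain ⟨t, ht, hzt⟩ : z ∈ ⋃₀ T := hT ▸ hz
    obtain ⟨η, hη⟩ := QuasiSober.sober (hTi t ht) (hTc t ht)
    have hη' : η ∈ (Set.range A.u)ᶜ := hT ▸ ⟨t, ht, hη.mem⟩
    obtain rfl := hzm η (hη.specializes hzt) hη'
    exact ⟨⟨t, ht⟩, hη⟩
  choose t ht using key
  exact Finite.of_injective t fun z z' h => Subtype.ext ((ht z).eq (h ▸ ht z'))

/-- The number of gaps. -/
def gapCount (A : Fac f) : ℕ := Nat.card (Gaps A)

/-- A proper open immersion of admissible factorizations loses a gap. -/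
theorem gapCount_lt [IsNoetherian S] [Flat f] [LocallyOfFinitePresentation f]
    {A B : Fac f} (a : Fac.Hom A B) [IsOpenImmersion a.v] (hne : ¬ IsIso a.v) :
    gapCount A < gapCount B := by
  haveI := finite_gaps A
  haveI := finite_gaps B
  haveI := affine_v a
  have hsub : Set.range B.u ⊆ Set.range a.v := by
    rintro _ ⟨x, rfl⟩
    exact ⟨A.u x, by rw [← Scheme.Hom.comp_apply, a.hu]⟩
  have hmap : ∀ z : Gaps A, a.v z.1 ∉ Set.range B.u ∧
      ∀ y : B.E, y ⤳ a.v z.1 → y ∉ Set.range B.u → y = a.v z.1 := by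
    rintro ⟨z, hz, hzm⟩
    refine ⟨fun ⟨x, hx⟩ => hz ⟨x, a.v.isOpenEmbedding.injective
      (by rw [← Scheme.Hom.comp_apply, a.hu, hx])⟩, fun y hy hyn => ?_⟩
    obtain ⟨y', rfl⟩ : y ∈ Set.range a.v := hy.mem_open a.v.isOpenEmbedding.isOpen_range ⟨z, rfl⟩
    refine congrArg a.v (hzm y' (a.v.isOpenEmbedding.isInducing.specializes_iff.1 hy) ?_)
    rintro ⟨x, rfl⟩
    exact hyn ⟨x, by rw [← Scheme.Hom.comp_apply, a.hu]⟩
  let φ : Gaps A → Gaps B := fun z => ⟨a.v z.1, hmap z⟩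
  have hφ : Function.Injective φ := fun z z' h =>
    Subtype.ext (a.v.isOpenEmbedding.injective (congrArg Subtype.val h))
  obtain ⟨p, hp⟩ : ∃ p, p ∉ Set.range a.v := by
    by_contra hall
    push Not at hall
    haveI : Surjective a.v := ⟨hall⟩
    exact hne ((isIso_iff_isOpenImmersion_and_surjective _).2 ⟨inferInstance, inferInstance⟩)
  obtain ⟨T, hTf, hTc, hTi, hT⟩ :=
    TopologicalSpace.NoetherianSpace.exists_finite_set_isClosed_irreducible
      (a.v.isOpenEmbedding.isOpen_range.isClosed_compl)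
  -- a generic point of the complement of the image
  obtain ⟨z, hz, hzm⟩ : ∃ z, z ∉ Set.range a.v ∧
      ∀ y : B.E, y ⤳ z → y ∉ Set.range a.v → y = z := by
    classical
    obtain ⟨t, ht, hpt⟩ : p ∈ ⋃₀ T := hT ▸ hp
    obtain ⟨t', ⟨ht', htt⟩, htmax⟩ := Set.Finite.exists_maximalFor id {s ∈ T | t ⊆ s}
      (hTf.subset fun s hs => hs.1) ⟨t, ht, subset_rfl⟩
    obtain ⟨η, hη⟩ := QuasiSober.sober (hTi t' ht') (hTc t' ht')
    refine ⟨η, show η ∈ (Set.range a.v)ᶜ from hT ▸ ⟨t', ht', hη.mem⟩, fun y hy hyn => ?_⟩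
    obtain ⟨s, hs, hys⟩ : y ∈ ⋃₀ T := hT ▸ (show y ∈ (Set.range a.v)ᶜ from hyn)
    have hts : t' ⊆ s := by
      rw [← hη.def]
      exact closure_minimal (Set.singleton_subset_iff.2 (hy.mem_closed (hTc s hs) hys)) (hTc s hs)
    have hst : s ⊆ t' := htmax ⟨hs, htt.trans hts⟩ hts
    exact ((hη.specializes (hst hys)).antisymm hy).eq.symm
  -- its height is at most one
  have hzB : z ∉ Set.range B.u := fun h => hz (hsub h)
  have hgap : ∀ y : B.E, y ⤳ z → y ∉ Set.range B.u → y = z := by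
    intro y hy hyn
    by_contra hne'
    haveI : IsLocallyNoetherian B.E := inferInstance
    obtain ⟨_, ⟨V, hV, rfl⟩, hzV, -⟩ :=
      B.E.isBasis_affineOpens.exists_subset_of_mem_open (Set.mem_univ z) isOpen_univ
    have hyV : y ∈ V := hy.mem_open V.2 hzV
    haveI : IsNoetherianRing Γ(B.E, V) := IsLocallyNoetherian.component_noetherian ⟨V, hV⟩
    have hVr : V.1 ∩ Set.range a.v = (a.v ''ᵁ (a.v ⁻¹ᵁ V) : B.E.Opens).1 := by
      change _ = a.v '' (a.v ⁻¹' V.1)
      rw [Set.image_preimage_eq_inter_range]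
    have hle : a.v ''ᵁ (a.v ⁻¹ᵁ V) ≤ hV.fromSpec.opensRange := by
      rw [hV.opensRange_fromSpec]; exact a.v.image_preimage_le V
    let U := hV.fromSpec ⁻¹ᵁ (a.v ''ᵁ (a.v ⁻¹ᵁ V))
    have hU : IsAffineOpen U :=
      ((hV.preimage a.v).image_of_isOpenImmersion a.v).preimage_of_isOpenImmersion hV.fromSpec hle
    have hmemU : ∀ {w : B.E} (hw : w ∈ V), hV.primeIdealOf ⟨w, hw⟩ ∈ U ↔ w ∈ Set.range a.v := by
      intro w hw
      change hV.fromSpec (hV.primeIdealOf ⟨w, hw⟩) ∈ (a.v ''ᵁ (a.v ⁻¹ᵁ V) : B.E.Opens).1 ↔ _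
      rw [← hVr, hV.fromSpec_primeIdealOf]
      exact ⟨fun h => h.2, fun h => ⟨hw, h⟩⟩
    have hht : (hV.primeIdealOf ⟨z, hzV⟩).asIdeal.height ≤ 1 := by
      refine S5161.result Γ(B.E, V) U hU (hV.primeIdealOf ⟨z, hzV⟩)
        (fun h => hz ((hmemU hzV).1 h)) fun q hq hqU => ?_
      have hsp : hV.fromSpec q ⤳ hV.fromSpec (hV.primeIdealOf ⟨z, hzV⟩) :=
        ((PrimeSpectrum.le_iff_specializes q (hV.primeIdealOf ⟨z, hzV⟩)).1 hq).map
          hV.fromSpec.continuous
      rw [hV.fromSpec_primeIdealOf] at hsp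
      refine hV.fromSpec.isOpenEmbedding.injective ?_
      rw [hV.fromSpec_primeIdealOf]
      refine hzm _ hsp fun hr => hqU ?_
      change hV.fromSpec q ∈ (a.v ''ᵁ (a.v ⁻¹ᵁ V) : B.E.Opens).1
      rw [← hVr]
      exact ⟨hV.range_fromSpec.le ⟨q, rfl⟩, hr⟩
    have hlt : (hV.primeIdealOf ⟨y, hyV⟩).asIdeal < (hV.primeIdealOf ⟨z, hzV⟩).asIdeal := by
      refine lt_of_le_of_ne ((AssPt.Basic.specializes_iff_primeIdealOf hV hzV hyV).1 hy) fun h => hne' ?_
      have := congrArg hV.fromSpec (PrimeSpectrum.ext h)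
      rwa [hV.fromSpec_primeIdealOf, hV.fromSpec_primeIdealOf] at this
    have hy0 : (hV.primeIdealOf ⟨y, hyV⟩).asIdeal.height = 0 := by
      haveI : (hV.primeIdealOf ⟨y, hyV⟩).asIdeal.FiniteHeight := inferInstance
      exact Order.lt_one_iff.1 ((Ideal.height_strict_mono_of_isPrime hlt).trans_le hht)
    have hymax : IsMaxPt y :=
      (AssPt.Basic.maximalPoint_iff_minimalPrime hV hyV).2 (Ideal.height_eq_zero_iff.1 hy0)
    exact hyn (B.mem_range_of_isMaxPt hymax)
  haveI := Fintype.ofFinite (Gaps A)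
  haveI := Fintype.ofFinite (Gaps B)
  rw [gapCount, gapCount, Nat.card_eq_fintype_card, Nat.card_eq_fintype_card]
  exact Fintype.card_lt_of_injective_of_notMem φ hφ (b := ⟨z, hzB, hgap⟩)
    fun ⟨w, hw⟩ => hz ⟨w.1, congrArg Subtype.val hw⟩

/-- A class of admissible factorizations stable under suprema has a finest member. -/
theorem exists_finest [IsNoetherian S] [Flat f] [LocallyOfFinitePresentation f] [QuasiCompact f]
    (hemb : AssSch.NoEmbedded (Coh.structureModule S)) (P : Fac f → Prop) (hne : ∃ A, P A)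
    (hsup : ∀ A B, P A → P B → ∃ C, P C ∧ Nonempty (Fac.Hom C A) ∧ Nonempty (Fac.Hom C B)) :
    ∃ A, P A ∧ ∀ B, P B → Nonempty (Fac.Hom A B) := by
  classical
  haveI : LocallyOfFiniteType f := inferInstance
  let N := Nat.card (Bound f)
  obtain ⟨A₁, hA₁⟩ := hne
  have h1 : ∃ n, ∃ A, P A ∧ N - deg A = n := ⟨_, A₁, hA₁, rfl⟩
  obtain ⟨A₂, hA₂, hd⟩ := Nat.find_spec h1
  have h2 : ∃ m, ∃ A, P A ∧ N - deg A = Nat.find h1 ∧ gapCount A = m := ⟨_, A₂, hA₂, hd, rfl⟩
  obtain ⟨A, hA, hdA, hgA⟩ := Nat.find_spec h2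
  refine ⟨A, hA, fun B hB => ?_⟩
  obtain ⟨C, hC, ⟨a⟩, ⟨b⟩⟩ := hsup A B hA hB
  have hle := deg_le_of_hom a
  have hmin : Nat.find h1 ≤ N - deg C := Nat.find_min' h1 ⟨C, hC, rfl⟩
  have hN : deg C ≤ N := deg_le C
  have heq : deg C ≤ deg A := by omega
  haveI := isOpenImmersion_of_deg_eq hemb a heq
  have hiso : IsIso a.v := by
    by_contra hni
    have hlt := gapCount_lt a hni
    have := Nat.find_min' h2 ⟨C, hC, show N - deg C = _ by omega, rfl⟩
    omega
  exact ⟨⟨inv a.v ≫ b.v,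
    by rw [← Category.assoc, show A.u ≫ inv a.v = C.u from
      (IsIso.comp_inv_eq a.v).2 a.hu.symm, b.hu],
    by rw [Category.assoc, b.hg, IsIso.inv_comp_eq, a.hg]⟩⟩

/-- The trivial factorization. -/
theorem exists_trivial [IsNoetherian S] [Flat f] [Surjective f] :
    ∃ A : Fac f, ∀ (B : Fac f), Nonempty (Fac.Hom B A) := by
  have hd : IsSchemeTheoreticallyDominant f :=
    (AssPt.FlatDom.isSchemeTheoreticallyDominant_iff_of_flat f).2 fun x _ => f.surjective x
  exact ⟨⟨S, 𝟙 S, f, inferInstance, inferInstance, hd, Category.comp_id f⟩,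
    fun B => ⟨⟨B.g, B.fac, Category.comp_id _⟩⟩⟩

end Groth.Agent.Lib.EtHull9

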