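import Groth.Agent.Lib.EtHull9.Initial
import Groth.Agent.Lib.QuietLib.RelFrob
import Groth.Agent.H61.EtaleFrob
import Groth.Prelude.Def_Frob
import Mathlib.AlgebraicGeometry.Morphisms.FormallyUnramified

/-!
# Relatively perfect morphisms are formally unramified
-/

set_option autoImplicit false
set_option linter.style.haveILetI false
set_option backward.isDefEq.respectTransparency.types false
set_option backward.isDefEq.respectTransparency false

universe u

open CategoryTheory CategoryTheory.Limits AlgebraicGeometry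

noncomputable section

namespace Groth.Agent.Lib.EtHull9

variable (p : ℕ) [Fact p.Prime] {Y S : Scheme.{u}} [FrobSch.IsCharP S p]

theorem isIso_relFrob_of_etale (c : Y ⟶ S) [Etale c] : IsIso (FrobSch.relFrob c p) := by
  haveI : FrobSch.IsCharP Y p := FrobSch.IsCharP.of_hom c p
  exact H61.EtaleFrob.isIso_relFrob p c _ (FrobSch.relFrob_fst c p) (FrobSch.relFrob_snd c p)

theorem formallyUnramified_of_isIso_relFrob (b : Y ⟶ S) (hb : IsIso (FrobSch.relFrob b p)) :
    FormallyUnramified b := by
  haveI : FrobSch.IsCharP Y p := FrobSch.IsCharP.of_hom b p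
  refine FormallyUnramified.of_hom_ext b fun R T φ hφ hker g₁ g₂ h₁ h₂ => ?_
  haveI : FrobSch.IsCharP (Spec R) p := FrobSch.IsCharP.of_hom g₁ p
  have h0 : (p : R) = 0 := by
    have h := congrArg (Scheme.ΓSpecIso R).hom.hom
      (FrobSch.IsCharP.natCast_eq_zero (X := Spec R) (p := p))
    simpa using h
  have hle : RingHom.ker φ.hom ≤ RingHom.ker (FrobSch.powHom p R h0) := by
    intro x hx
    rw [RingHom.mem_ker, FrobSch.powHom_apply, ← Ideal.mem_bot, ← hker]
    exact Ideal.pow_le_pow_right (Fact.out : p.Prime).two_le (Ideal.pow_mem_pow hx p)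
  let σ : T →+* R := RingHom.liftOfSurjective φ.hom hφ ⟨FrobSch.powHom p R h0, hle⟩
  have hσ : CommRingCat.ofHom (FrobSch.powHom p R h0) = φ ≫ CommRingCat.ofHom σ := by
    ext x
    exact (RingHom.liftOfRightInverse_comp_apply φ.hom _ (Function.rightInverse_surjInv hφ)
      ⟨FrobSch.powHom p R h0, hle⟩ x).symm
  have hfrob : FrobSch.frob (Spec R) p = Spec.map (CommRingCat.ofHom σ) ≫ Spec.map φ := by
    rw [QuietLib.RelFrob.frob_Spec p R h0, hσ, Spec.map_comp]
  refine (cancel_mono (FrobSch.relFrob b p)).1 (pullback.hom_ext ?_ ?_)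
  · simp only [Category.assoc, FrobSch.relFrob_fst]
    rw [← FrobSch.frob_comp p g₁, ← FrobSch.frob_comp p g₂, hfrob, Category.assoc, Category.assoc,
      h₁]
  · simp only [Category.assoc, FrobSch.relFrob_snd]
    exact h₂

end Groth.Agent.Lib.EtHull9
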