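import Groth.Agent.Lib.EtHull9.Factor

/-!
# Initial étale objects are initial among formally unramified objects
-/

set_option autoImplicit false
set_option linter.style.haveILetI false
set_option backward.isDefEq.respectTransparency.types false
set_option backward.isDefEq.respectTransparency false

universe u

open CategoryTheory CategoryTheory.Limits AlgebraicGeometry
open Groth.Agent.Lib

noncomputable section

namespace Groth.Agent.Lib.EtHull9

theorem existsUnique_lift {X P S : Scheme.{u}} [IsNoetherian S] [IsNoetherian X] [IsNoetherian P]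
    (a : X ⟶ S) [Flat a] [LocallyOfFinitePresentation a] (c : P ⟶ S) [Etale c]
    [QuasiCompact c] [QuasiSeparated c] (ϖ : X ⟶ P) (hϖ : ϖ ≫ c = a)
    (hinit : ∀ (E : Scheme.{u}) (e : E ⟶ S), Etale e → QuasiCompact e → QuasiSeparated e →
      ∀ k : X ⟶ E, k ≫ e = a → ∃! l : P ⟶ E, ϖ ≫ l = k ∧ l ≫ e = c)
    (Y : Scheme.{u}) (b : Y ⟶ S) [FormallyUnramified b] (k : X ⟶ Y) (hk : k ≫ b = a) :
    ∃! l : P ⟶ Y, ϖ ≫ l = k ∧ l ≫ b = c := by
  haveI : Flat (ϖ ≫ c) := by rw [hϖ]; infer_instance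
  haveI : Flat ϖ := StCurv.flat_of_comp_etale ϖ c
  haveI : LocallyOfFiniteType (ϖ ≫ c) := by rw [hϖ]; infer_instance
  haveI : LocallyOfFiniteType ϖ := locallyOfFiniteType_of_comp ϖ c
  haveI : LocallyOfFinitePresentation ϖ :=
    LocallyOfFinitePresentation.iff_locallyOfFiniteType.mpr ‹_›
  haveI : Surjective ϖ := by
    let U : P.Opens := ⟨Set.range ϖ, ϖ.isOpenMap.isOpen_range⟩
    haveI : IsLocallyNoetherian U := LocallyOfFiniteType.isLocallyNoetherian U.ι
    haveI : CompactSpace U := QuasiCompact.compactSpace_of_compactSpace U.ι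
    haveI : IsNoetherian U := {}
    have hr : Set.range ϖ ⊆ Set.range U.ι := by
      rw [Scheme.Opens.range_ι]; exact subset_rfl
    obtain ⟨l, ⟨hl1, hl2⟩, -⟩ := hinit U (U.ι ≫ c) inferInstance inferInstance inferInstance
      (IsOpenImmersion.lift U.ι ϖ hr) (by rw [IsOpenImmersion.lift_fac_assoc, hϖ])
    have hid : l ≫ U.ι = 𝟙 P := by
      obtain ⟨l₀, -, huniq⟩ := hinit P c inferInstance inferInstance inferInstance ϖ hϖ
      rw [huniq (l ≫ U.ι) ⟨by rw [reassoc_of% hl1, IsOpenImmersion.lift_fac],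
        by rw [Category.assoc, hl2]⟩, huniq (𝟙 P) ⟨Category.comp_id _, Category.id_comp _⟩]
    refine ⟨fun x => ?_⟩
    have e := congrArg (fun m => m x) hid
    simp only [Scheme.Hom.comp_apply] at e
    have h2 : (U.ι (l x) : P) ∈ Set.range ϖ := (l x).2
    rw [e] at h2
    exact h2
  haveI : QuasiCompact ϖ := inferInstance
  obtain ⟨E, u, m, hetale, -, -, -, -, -, hmono, -, -, hE, hum⟩ := exists_factorization a b k hk
  haveI := hetale
  obtain ⟨l, ⟨hl1, hl2⟩, -⟩ := hinit E (m ≫ b) hetale inferInstance inferInstance u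
    (by rw [reassoc_of% hum, hk])
  refine ⟨l ≫ m, ⟨by rw [reassoc_of% hl1, hum], by rw [Category.assoc, hl2]⟩, ?_⟩
  rintro l' ⟨hl', -⟩
  rw [← cancel_epi ϖ, hl', reassoc_of% hl1, hum]

end Groth.Agent.Lib.EtHull9
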