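import Groth.Agent.Lib.EtHull9.Basic
import Mathlib.AlgebraicGeometry.Morphisms.FlatMono

/-!
# Geometric points over maximal points: the degree of an admissible factorization
-/

set_option autoImplicit false
set_option linter.style.haveILetI false

universe u

open CategoryTheory CategoryTheory.Limits AlgebraicGeometry TopologicalSpace

noncomputable section

namespace Groth.Agent.Lib.EtHull9

variable {X S : Scheme.{u}}

/-- The chosen geometric point over a point. -/
abbrev geo (s : S) : Spec (CommRingCat.of (AlgebraicClosure (S.residueField s))) ⟶ S :=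
  Spec.map (CommRingCat.ofHom (algebraMap (S.residueField s) (AlgebraicClosure (S.residueField s)))) ≫
    S.fromSpecResidueField s

theorem geo_apply (s : S) (t : ↥(Spec (CommRingCat.of (AlgebraicClosure (S.residueField s))))) :
    geo s t = s := Scheme.fromSpecResidueField_apply s _

theorem discrete_of_lqf {Z : Scheme.{u}} {Ω : Type u} [Field Ω] (h : Z ⟶ Spec (CommRingCat.of Ω))
    [LocallyQuasiFinite h] : DiscreteTopology Z := by
  have hd := h.isDiscrete_preimage (s := Set.univ) (isDiscrete_univ_iff.mpr inferInstance)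
  rw [Set.preimage_univ, isDiscrete_univ_iff] at hd
  exact hd

/-- Through a point above a geometric point of the base of an etale morphism passes a geometric
point. -/
theorem exists_geomPt {A B : Scheme.{u}} (w : A ⟶ B) [Etale w] {Ω : Type u} [Field Ω] [IsAlgClosed Ω]
    (η : Spec (CommRingCat.of Ω) ⟶ B) (a : A) (ha : w a = η (IsLocalRing.closedPoint Ω)) :
    ∃ s : Spec (CommRingCat.of Ω) ⟶ A, s ≫ w = η ∧ s (IsLocalRing.closedPoint Ω) = a := by
  haveI : LocallyQuasiFinite (pullback.snd w η) :=
    haveI := Henselian.DescendSection.locallyQuasiFinite_of_etale w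
    inferInstance
  haveI : LocallyOfFiniteType (pullback.snd w η) := MorphismProperty.pullback_snd _ _ inferInstance
  obtain ⟨ζ, hζ, -⟩ := Scheme.Pullback.exists_preimage_pullback (f := w) (g := η) a
    (IsLocalRing.closedPoint Ω) ha
  haveI := discrete_of_lqf (pullback.snd w η)
  have hclosed : IsClosed ({ζ} : Set ↥(pullback w η)) := isClosed_discrete _
  refine ⟨pointOfClosedPoint (pullback.snd w η) ζ hclosed ≫ pullback.fst w η, ?_, ?_⟩
  · rw [Category.assoc, pullback.condition, pointOfClosedPoint_comp_assoc]
  · rw [Scheme.Hom.comp_apply, pointOfClosedPoint_apply, hζ]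

/-- Geometric points over one maximal point of the base. -/
def PtsAt {E : Scheme.{u}} (g : E ⟶ S) (s : S) : Type u :=
  {p : Spec (CommRingCat.of (AlgebraicClosure (S.residueField s))) ⟶ E // p ≫ g = geo s}

/-- All geometric points over maximal points. -/
def Pts {f : X ⟶ S} (A : Fac f) : Type u := Σ s : {s : S // IsMaxPt s}, PtsAt A.g s.1

variable (f : X ⟶ S)

/-- The bound on the number of geometric points. -/
def Bound : Type u := Σ s : {s : S // IsMaxPt s}, ↥(irreducibleComponents ↥(pullback f (geo s.1)))

theorem finite_maxPt [IsNoetherian S] : Finite {s : S // IsMaxPt s} := by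
  haveI := (TopologicalSpace.NoetherianSpace.finite_irreducibleComponents (α := ↥S)).to_subtype
  refine Finite.of_injective
    (fun s => (⟨irreducibleComponent s.1, irreducibleComponent_mem_irreducibleComponents s.1⟩ :
      ↥(irreducibleComponents ↥S))) fun s t h => Subtype.ext ?_
  have key : ∀ {s : S}, IsMaxPt s → irreducibleComponent s = closure {s} := fun {s} hs => by
    obtain ⟨η, hη⟩ := QuasiSober.sober (isIrreducible_irreducibleComponent (x := s))
      isClosed_irreducibleComponent
    obtain rfl := hs η (hη.specializes mem_irreducibleComponent)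
    exact hη.def.symm
  have h' : closure {s.1} = closure {t.1} := by
    rw [← key s.2, ← key t.2]; exact congrArg Subtype.val h
  exact ((specializes_iff_closure_subset.2 h'.ge).antisymm (specializes_iff_closure_subset.2 h'.le)).eq

theorem finite_bound [IsNoetherian S] [LocallyOfFiniteType f] [QuasiCompact f] : Finite (Bound f) := by
  haveI := finite_maxPt (S := S)
  haveI : ∀ s : {s : S // IsMaxPt s}, Finite ↥(irreducibleComponents ↥(pullback f (geo s.1))) := by
    intro s
    haveI : IsLocallyNoetherian (pullback f (geo s.1)) :=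
      LocallyOfFiniteType.isLocallyNoetherian (pullback.snd f (geo s.1))
    haveI : CompactSpace ↥(pullback f (geo s.1)) :=
      QuasiCompact.compactSpace_of_compactSpace (pullback.snd f (geo s.1))
    haveI : IsNoetherian (pullback f (geo s.1)) := {}
    exact (TopologicalSpace.NoetherianSpace.finite_irreducibleComponents
      (α := ↥(pullback f (geo s.1)))).to_subtype
  exact inferInstanceAs (Finite (Σ _, _))

variable {f}

/-- Every geometric point comes from an irreducible component of the geometric fibre. -/
theorem exists_embedding [IsNoetherian S] [Flat f] (A : Fac f) :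
    ∃ φ : Pts A → Bound f, Function.Injective φ := by
  classical
  have hq : ∀ (p : Pts A), ∃ x : ↥(pullback f (geo p.1.1)),
      (pullback.lift (pullback.fst _ _ ≫ A.u) (pullback.snd _ _)
        (by rw [Category.assoc, A.fac, pullback.condition]) :
          pullback f (geo p.1.1) ⟶ pullback A.g (geo p.1.1)) x =
        (pullback.lift p.2.1 (𝟙 _) (p.2.2.trans (Category.id_comp _).symm) :
          _ ⟶ pullback A.g (geo p.1.1)) (IsLocalRing.closedPoint _) := by
    rintro ⟨⟨s, hs⟩, p, hp⟩
    set ζ := (pullback.lift p (𝟙 _) (hp.trans (Category.id_comp _).symm) :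
      _ ⟶ pullback A.g (geo s)) (IsLocalRing.closedPoint _)
    have he : IsMaxPt (pullback.fst A.g (geo s) ζ) := by
      refine isMaxPt_of_map A.g ?_
      rw [← Scheme.Hom.comp_apply, pullback.condition, Scheme.Hom.comp_apply, geo_apply]
      exact hs
    obtain ⟨x, hx⟩ := A.mem_range_of_isMaxPt he
    obtain ⟨w, -, hw⟩ := Scheme.Pullback.exists_preimage_pullback (f := A.u)
      (g := pullback.fst A.g (geo s)) x ζ hx
    let m : pullback A.u (pullback.fst A.g (geo s)) ⟶ pullback f (geo s) :=
      pullback.lift (pullback.fst _ _) (pullback.snd _ _ ≫ pullback.snd _ _) (by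
        rw [Category.assoc, ← pullback.condition, ← pullback.condition_assoc, A.fac])
    refine ⟨m w, ?_⟩
    rw [← Scheme.Hom.comp_apply]
    have e : m ≫ (pullback.lift (pullback.fst _ _ ≫ A.u) (pullback.snd _ _)
        (by rw [Category.assoc, A.fac, pullback.condition]) :
          pullback f (geo s) ⟶ pullback A.g (geo s)) = pullback.snd _ _ := by
      refine pullback.hom_ext ?_ ?_
      · rw [Category.assoc, pullback.lift_fst, pullback.lift_fst_assoc, pullback.condition]
      · rw [Category.assoc, pullback.lift_snd, pullback.lift_snd]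
    rw [e, hw]
  choose x hx using hq
  refine ⟨fun p => ⟨p.1, irreducibleComponent (x p), irreducibleComponent_mem_irreducibleComponents _⟩,
    fun p p' h => ?_⟩
  obtain ⟨s, p⟩ := p
  obtain ⟨s', p'⟩ := p'
  obtain rfl : s = s' := congrArg Sigma.fst h
  have hZ : irreducibleComponent (x ⟨s, p⟩) = irreducibleComponent (x ⟨s, p'⟩) :=
    congrArg Subtype.val (eq_of_heq (Sigma.mk.inj_iff.1 h).2)
  haveI : LocallyQuasiFinite (pullback.snd A.g (geo s.1)) :=
    haveI := Henselian.DescendSection.locallyQuasiFinite_of_etale A.g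
    inferInstance
  haveI : LocallyOfFiniteType (pullback.snd A.g (geo s.1)) :=
    MorphismProperty.pullback_snd _ _ inferInstance
  haveI := discrete_of_lqf (pullback.snd A.g (geo s.1))
  let q : pullback f (geo s.1) ⟶ pullback A.g (geo s.1) :=
    pullback.lift (pullback.fst _ _ ≫ A.u) (pullback.snd _ _)
      (by rw [Category.assoc, A.fac, pullback.condition])
  have hsub := ((isIrreducible_irreducibleComponent (x := x ⟨s, p⟩)).isConnected.isPreconnected.image
    q q.continuous.continuousOn).subsingleton
  have hpt : q (x ⟨s, p⟩) = q (x ⟨s, p'⟩) :=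
    hsub ⟨_, mem_irreducibleComponent, rfl⟩ ⟨_, hZ ▸ mem_irreducibleComponent, rfl⟩
  have h1 : q (x ⟨s, p⟩) = _ := hx ⟨s, p⟩
  have h2 : q (x ⟨s, p'⟩) = _ := hx ⟨s, p'⟩
  have hl := ext_of_apply_closedPoint_eq (pullback.snd A.g (geo s.1)) (pullback.lift_snd _ _ _)
    (pullback.lift_snd _ _ _) (h1.symm.trans (hpt.trans h2))
  refine congrArg (Sigma.mk s) (Subtype.ext ?_)
  have := congrArg (· ≫ pullback.fst A.g (geo s.1)) hl
  simpa only [pullback.lift_fst] using this

/-- The degree. -/
def deg (A : Fac f) : ℕ := Nat.card (Pts A)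

theorem finite_pts [IsNoetherian S] [Flat f] [LocallyOfFiniteType f] [QuasiCompact f] (A : Fac f) :
    Finite (Pts A) := by
  obtain ⟨φ, hφ⟩ := exists_embedding A
  haveI := finite_bound f
  exact Finite.of_injective φ hφ

theorem deg_le [IsNoetherian S] [Flat f] [LocallyOfFiniteType f] [QuasiCompact f] (A : Fac f) :
    deg A ≤ Nat.card (Bound f) := by
  obtain ⟨φ, hφ⟩ := exists_embedding A
  haveI := finite_bound f
  exact Nat.card_le_card_of_injective φ hφ

theorem etale_v {A B : Fac f} (a : Fac.Hom A B) : Etale a.v := by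
  haveI : Etale (a.v ≫ B.g) := a.hg.symm ▸ A.etale
  exact Etale.of_comp a.v B.g

theorem affine_v {A B : Fac f} (a : Fac.Hom A B) : IsAffineHom a.v := by
  haveI : IsAffineHom (a.v ≫ B.g) := a.hg.symm ▸ A.affine
  exact IsAffineHom.of_comp a.v B.g

/-- The map on geometric points. -/
def ptsMap {A B : Fac f} (a : Fac.Hom A B) (p : Pts A) : Pts B :=
  ⟨p.1, p.2.1 ≫ a.v, by rw [Category.assoc, a.hg, p.2.2]⟩

theorem ptsMap_surjective [IsNoetherian S] [Flat f] {A B : Fac f} (a : Fac.Hom A B) :
    Function.Surjective (ptsMap a) := by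
  rintro ⟨⟨s, hs⟩, p, hp⟩
  haveI := etale_v a
  have he : IsMaxPt (p (IsLocalRing.closedPoint _)) := by
    refine isMaxPt_of_map B.g ?_
    rw [← Scheme.Hom.comp_apply, hp, geo_apply]
    exact hs
  obtain ⟨x, hx⟩ := B.mem_range_of_isMaxPt he
  obtain ⟨r, hr, -⟩ := exists_geomPt a.v p (A.u x) (by rw [← Scheme.Hom.comp_apply, a.hu, hx])
  refine ⟨⟨⟨s, hs⟩, r, ?_⟩, ?_⟩
  · rw [← a.hg, ← Category.assoc, hr, hp]
  · exact congrArg (Sigma.mk (⟨s, hs⟩ : {s : S // IsMaxPt s})) (Subtype.ext hr)

theorem deg_le_of_hom [IsNoetherian S] [Flat f] [LocallyOfFiniteType f] [QuasiCompact f]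
    {A B : Fac f} (a : Fac.Hom A B) : deg B ≤ deg A := by
  haveI := finite_pts A
  exact Nat.card_le_card_of_surjective _ (ptsMap_surjective a)

/-- Equal degrees force an open immersion. -/
theorem isOpenImmersion_of_deg_eq [IsNoetherian S] [Flat f] [LocallyOfFiniteType f] [QuasiCompact f]
    (hemb : AssSch.NoEmbedded (Coh.structureModule S))
    {A B : Fac f} (a : Fac.Hom A B) (h : deg A ≤ deg B) : IsOpenImmersion a.v := by
  haveI := finite_pts A
  haveI := finite_pts B
  have hinj : Function.Injective (ptsMap a) :=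
    ((Nat.bijective_iff_surjective_and_card _).2
      ⟨ptsMap_surjective a, le_antisymm h (deg_le_of_hom a)⟩).1
  haveI := etale_v a
  haveI := affine_v a
  haveI : Surjective (pullback.diagonal a.v) := ⟨fun ξ => by
    by_contra hξ
    let gP : pullback a.v a.v ⟶ S := pullback.fst a.v a.v ≫ A.g
    haveI : Etale gP := MorphismProperty.comp_mem @Etale _ _
      (MorphismProperty.pullback_fst (P := @Etale) a.v a.v ‹_›) A.etale
    obtain ⟨t, htξ, ht⟩ := AssPt.FlatDom.exists_maxAssoc_generalization ξ
    have htn : t ∉ Set.range (pullback.diagonal a.v) := fun htr =>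
      hξ (htξ.mem_closed (pullback.diagonal a.v).isClosedEmbedding.isClosed_range htr)
    have hmax := isMaxPt_of_maxAssoc hemb gP ht
    have hs := isMaxPt_map hemb gP hmax
    obtain ⟨r, hr, hrt⟩ := exists_geomPt gP (geo (gP t)) t (geo_apply _ _).symm
    let p₁ : Pts A := ⟨⟨gP t, hs⟩, r ≫ pullback.fst a.v a.v, (Category.assoc _ _ _).trans hr⟩
    let p₂ : Pts A := ⟨⟨gP t, hs⟩, r ≫ pullback.snd a.v a.v, by
      rw [← hr, Category.assoc]
      congr 1
      change pullback.snd a.v a.v ≫ A.g = pullback.fst a.v a.v ≫ A.g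
      rw [← a.hg, ← pullback.condition_assoc]⟩
    have e : ptsMap a p₁ = ptsMap a p₂ :=
      congrArg (Sigma.mk (⟨gP t, hs⟩ : {s : S // IsMaxPt s}))
        (Subtype.ext (by simp only [p₁, p₂, Category.assoc, pullback.condition]))
    have e' : r ≫ pullback.fst a.v a.v = r ≫ pullback.snd a.v a.v :=
      congrArg Subtype.val (eq_of_heq (Sigma.mk.inj_iff.1 (hinj e)).2)
    have e'' : (r ≫ pullback.fst a.v a.v) ≫ pullback.diagonal a.v = r := by
      refine pullback.hom_ext ?_ ?_
      · simp
      · simp [e']
    exact htn ⟨_, (congrArg (fun k : _ ⟶ pullback a.v a.v => k (IsLocalRing.closedPoint _)) e'').trans hrt⟩⟩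
  haveI : IsIso (pullback.diagonal a.v) :=
    (isIso_iff_isOpenImmersion_and_surjective _).2 ⟨inferInstance, inferInstance⟩
  haveI : Mono a.v := (pullback.isIso_diagonal_iff a.v).1 inferInstance
  exact IsOpenImmersion.of_flat_of_mono a.v

end Groth.Agent.Lib.EtHull9
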