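import Groth.Agent.Lib.EtHull9.EqLocus
import Groth.Agent.Lib.FFDesc.Lqf
import Groth.Agent.Lib.StCurv.CohenMacaulay
import Groth.Agent.Lib.Henselian.DescendSection
import Mathlib.AlgebraicGeometry.Morphisms.Etale
import Mathlib.AlgebraicGeometry.Morphisms.LocalFlatDescent
import Groth.Agent.Lib.DescAlg.Descends
import Mathlib.AlgebraicGeometry.Sites.Fpqc
import Mathlib.AlgebraicGeometry.Limits

/-!
# Étale quotients by clopen kernel pairs

For `f : X ⟶ W` flat between Noetherian schemes and `h : X ⟶ V` such that the locus in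
`X ×_W X` where `h` agrees is clopen, the quotient of `X` by this relation is a scheme, étale and
separated over `W`. The proof is by induction on the number of classes in the geometric fibres:
after base change along the image cover `X ⟶ W` the diagonal splits off a copy of `X`, and one
descends along this cover.
-/

set_option autoImplicit false
set_option linter.style.haveILetI false
set_option backward.isDefEq.respectTransparency.types false
set_option backward.isDefEq.respectTransparency false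

universe u

open CategoryTheory CategoryTheory.Limits AlgebraicGeometry TopologicalSpace
open Groth.Agent.Lib

noncomputable section

namespace Groth.Agent.Lib.EtHull9

variable {X W V : Scheme.{u}}

/-- `g : E ⟶ W` with `π : X ⟶ E` is the étale quotient of `X` by the agreement of `h`. -/
structure IsQuot (f : X ⟶ W) (h : X ⟶ V) {E : Scheme.{u}} (π : X ⟶ E) (g : E ⟶ W) : Prop where
  fac : π ≫ g = f
  flat : Flat π
  surj : Surjective π
  etale : Etale g
  sep : IsSeparated g
  ker : ∀ {T : Scheme.{u}} (a b : T ⟶ X), a ≫ π = b ≫ π ↔ a ≫ f = b ≫ f ∧ a ≫ h = b ≫ h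

theorem coprodDesc_mem (P : MorphismProperty Scheme.{u}) [IsZariskiLocalAtSource P]
    {A B S : Scheme.{u}} (a : A ⟶ S) (b : B ⟶ S) (ha : P a) (hb : P b) :
    P (coprod.desc a b) := by
  rw [IsZariskiLocalAtSource.iff_of_openCover (P := P) (coprodOpenCover.{u, 0} A B)]
  rintro (_ | _)
  · change P (coprod.inl ≫ coprod.desc a b)
    rwa [coprod.inl_desc]
  · change P (coprod.inr ≫ coprod.desc a b)
    rwa [coprod.inr_desc]

theorem coprodMap_mem (P : MorphismProperty Scheme.{u}) [IsZariskiLocalAtTarget P]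
    {A B A' B' : Scheme.{u}} (a : A ⟶ A') (b : B ⟶ B') (ha : P a) (hb : P b) :
    P (coprod.map a b) := by
  rw [IsZariskiLocalAtTarget.iff_of_openCover (P := P) (coprodOpenCover.{u, 0} A' B')]
  rintro (_ | _)
  · change P (pullback.snd (coprod.map a b) coprod.inl)
    have e := (isPullback_inl_inl_coprodMap a b).flip
    rwa [← e.isoPullback_inv_snd, MorphismProperty.cancel_left_of_respectsIso P]
  · change P (pullback.snd (coprod.map a b) coprod.inr)
    have e := (isPullback_inr_inr_coprodMap a b).flip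
    rwa [← e.isoPullback_inv_snd, MorphismProperty.cancel_left_of_respectsIso P]

theorem isSeparated_coprodDesc_id {E X : Scheme.{u}} (g : E ⟶ X) [IsSeparated g] :
    IsSeparated (coprod.desc g (𝟙 X)) := by
  haveI : IsSeparated (coprod.map g (𝟙 X)) :=
    coprodMap_mem (@IsSeparated : MorphismProperty Scheme.{u}) g (𝟙 X) ‹_› inferInstance
  have e : coprod.map g (𝟙 X) ≫ coprod.desc (𝟙 X) (𝟙 X) = coprod.desc g (𝟙 X) := by
    rw [coprod.map_desc, Category.comp_id, Category.comp_id]
  rw [← e]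
  infer_instance

theorem IsEqLocus.range_subset_iff {f : X ⟶ W} {h : X ⟶ V} {C : (pullback f f).Opens}
    (hC : IsEqLocus f h C) {T : Scheme.{u}} (a : T ⟶ pullback f f) :
    (a ≫ pullback.fst f f) ≫ h = (a ≫ pullback.snd f f) ≫ h ↔
      Set.range a ⊆ (C : Set ↥(pullback f f)) := by
  have w : (a ≫ pullback.fst f f) ≫ f = (a ≫ pullback.snd f f) ≫ f := by
    rw [Category.assoc, Category.assoc, pullback.condition]
  have e : pullback.lift _ _ w = a :=
    pullback.hom_ext (pullback.lift_fst _ _ _) (pullback.lift_snd _ _ _)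
  have h1 := hC.2 (a ≫ pullback.fst f f) (a ≫ pullback.snd f f) w
  rwa [e] at h1

section Step

variable {f : X ⟶ W} {h : X ⟶ V} {C : (pullback f f).Opens} (hC : IsEqLocus f h C)
  {E' : Scheme.{u}} (π' : (coOpens hC : Scheme.{u}) ⟶ E') (g' : E' ⟶ X)

theorem isCompl_opensRange : IsCompl (coOpens hC).ι.opensRange C.ι.opensRange := by
  rw [Scheme.Opens.opensRange_ι, Scheme.Opens.opensRange_ι]
  constructor
  · rw [disjoint_iff]
    ext x
    simp [coOpens]
  · rw [codisjoint_iff]
    ext x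
    simp [coOpens]

/-- `X ×_W X` as a coproduct. -/
def isColimitPieces : IsColimit (BinaryCofan.mk (coOpens hC).ι C.ι) :=
  (nonempty_isColimit_binaryCofanMk_of_isCompl _ _ (isCompl_opensRange hC)).some

/-- The quotient map after base change. -/
def piX : pullback f f ⟶ E' ⨿ X :=
  (BinaryCofan.IsColimit.desc' (isColimitPieces hC) (π' ≫ coprod.inl)
    ((C.ι ≫ pullback.snd f f) ≫ coprod.inr)).1

theorem ι_piX : (coOpens hC).ι ≫ piX hC π' = π' ≫ coprod.inl :=
  (BinaryCofan.IsColimit.desc' (isColimitPieces hC) (π' ≫ coprod.inl)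
    ((C.ι ≫ pullback.snd f f) ≫ coprod.inr)).2.1

theorem Cι_piX : C.ι ≫ piX hC π' = (C.ι ≫ pullback.snd f f) ≫ coprod.inr :=
  (BinaryCofan.IsColimit.desc' (isColimitPieces hC) (π' ≫ coprod.inl)
    ((C.ι ≫ pullback.snd f f) ≫ coprod.inr)).2.2

theorem piX_apply_mem {p : ↥(pullback f f)} (hp : p ∈ C) :
    piX hC π' p ∈ Set.range (coprod.inr : X ⟶ E' ⨿ X) := by
  refine ⟨pullback.snd f f p, ?_⟩
  have e := congrArg (fun k => k (⟨p, hp⟩ : ↥C.toScheme)) (Cι_piX hC π')
  simp only [Scheme.Hom.comp_apply] at e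
  exact e.symm

theorem piX_apply_not_mem {p : ↥(pullback f f)} (hp : p ∉ C) :
    piX hC π' p ∈ Set.range (coprod.inl : E' ⟶ E' ⨿ X) := by
  refine ⟨π' ⟨p, hp⟩, ?_⟩
  have e := congrArg (fun k => k (⟨p, hp⟩ : ↥(coOpens hC).toScheme)) (ι_piX hC π')
  simp only [Scheme.Hom.comp_apply] at e
  exact e.symm

theorem piX_mem_iff (p : ↥(pullback f f)) :
    piX hC π' p ∈ Set.range (coprod.inr : X ⟶ E' ⨿ X) ↔ p ∈ C := by
  refine ⟨fun hr => ?_, piX_apply_mem hC π'⟩
  by_contra hp
  obtain ⟨e, he⟩ := piX_apply_not_mem hC π' hp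
  obtain ⟨x, hx⟩ := hr
  exact inl_ne_inr _ _ e x (he.trans hx.symm)

variable {g'}

theorem piX_comp (hQ : π' ≫ g' = coHom hC) :
    piX hC π' ≫ coprod.desc g' (𝟙 X) = pullback.snd f f := by
  apply BinaryCofan.IsColimit.hom_ext (isColimitPieces hC)
  · change (coOpens hC).ι ≫ _ = (coOpens hC).ι ≫ _
    rw [reassoc_of% ι_piX hC π', coprod.inl_desc, hQ]
  · change C.ι ≫ _ = C.ι ≫ _
    rw [reassoc_of% Cι_piX hC π', coprod.inr_desc, Category.comp_id]

theorem flat_piX [Flat f] [Flat π'] : Flat (piX hC π') := by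
  have hflatC : Flat ((C.ι ≫ pullback.snd f f) ≫ (coprod.inr : X ⟶ E' ⨿ X)) := inferInstance
  have hflatQ : Flat (π' ≫ (coprod.inl : E' ⟶ E' ⨿ X)) := inferInstance
  haveI : IsIso (coprod.desc (coOpens hC).ι C.ι) := by
    let e : (coOpens hC : Scheme.{u}) ⨿ (C : Scheme.{u}) ≅ pullback f f :=
      (coprodIsCoprod _ _).coconePointUniqueUpToIso (isColimitPieces hC)
    have he : coprod.desc (coOpens hC).ι C.ι = e.hom := by
      apply coprod.hom_ext
      · rw [coprod.inl_desc]
        exact ((coprodIsCoprod _ _).comp_coconePointUniqueUpToIso_hom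
          (isColimitPieces hC) ⟨WalkingPair.left⟩).symm
      · rw [coprod.inr_desc]
        exact ((coprodIsCoprod _ _).comp_coconePointUniqueUpToIso_hom
          (isColimitPieces hC) ⟨WalkingPair.right⟩).symm
    rw [he]
    infer_instance
  rw [← MorphismProperty.cancel_left_of_respectsIso (P := (@Flat : MorphismProperty Scheme.{u}))
    (coprod.desc (coOpens hC).ι C.ι), coprod.desc_comp, ι_piX, Cι_piX]
  exact coprodDesc_mem (@Flat : MorphismProperty Scheme.{u}) _ _ hflatQ hflatC

theorem surjective_piX [Surjective π'] : Surjective (piX hC π') := by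
  refine ⟨fun y => ?_⟩
  obtain ⟨(e | x), rfl⟩ := (coprodMk E' X).surjective y
  · obtain ⟨q, rfl⟩ := π'.surjective e
    refine ⟨(coOpens hC).ι q, ?_⟩
    rw [coprodMk_inl, ← Scheme.Hom.comp_apply, ι_piX, Scheme.Hom.comp_apply]
  · have hx := hC.lift_self_mem (𝟙 X) rfl x
    refine ⟨pullback.lift (𝟙 X) (𝟙 X) rfl x, ?_⟩
    rw [coprodMk_inr]
    have e := congrArg (fun k => k (⟨_, hx⟩ : ↥C.toScheme)) (Cι_piX hC π')
    simp only [Scheme.Hom.comp_apply] at e
    erw [e]
    have : pullback.snd f f (pullback.lift (𝟙 X) (𝟙 X) rfl x) = x := by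
      rw [← Scheme.Hom.comp_apply, pullback.lift_snd]
      rfl
    exact congrArg _ this

theorem piX_ker_C {T : Scheme.{u}} (a b : T ⟶ pullback f f)
    (w : a ≫ pullback.snd f f = b ≫ pullback.snd f f)
    (ha : Set.range a ⊆ (C : Set ↥(pullback f f))) :
    a ≫ piX hC π' = b ≫ piX hC π' ↔
      (a ≫ pullback.fst f f) ≫ h = (b ≫ pullback.fst f f) ≫ h := by
  have haC := (hC.range_subset_iff a).2 ha
  constructor
  · intro e
    have hb : Set.range b ⊆ (C : Set ↥(pullback f f)) := by
      rintro _ ⟨t, rfl⟩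
      have e' := congrArg (fun k => k t) e
      simp only [Scheme.Hom.comp_apply] at e'
      exact (piX_mem_iff hC π' _).1 (e' ▸ piX_apply_mem hC π' (ha ⟨t, rfl⟩))
    rw [haC, (hC.range_subset_iff b).2 hb, w]
  · intro e
    have hb : Set.range b ⊆ (C : Set ↥(pullback f f)) :=
      (hC.range_subset_iff b).1 (by rw [← e, haC, w])
    have hι : ∀ c : T ⟶ pullback f f, Set.range c ⊆ (C : Set ↥(pullback f f)) →
        c ≫ piX hC π' = (c ≫ pullback.snd f f) ≫ coprod.inr := by
      intro c hc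
      have hc' : Set.range c ⊆ Set.range C.ι := by rwa [Scheme.Opens.range_ι]
      rw [← IsOpenImmersion.lift_fac C.ι c hc']
      simp only [Category.assoc, Cι_piX]
    rw [hι a ha, hι b hb, w]

theorem piX_ker_Q (hQ : IsQuot (coHom hC) (coVal hC ≫ h) π' g') {T : Scheme.{u}}
    (a b : T ⟶ pullback f f) (w : a ≫ pullback.snd f f = b ≫ pullback.snd f f)
    (ha : Set.range a ⊆ (C : Set ↥(pullback f f))ᶜ) :
    a ≫ piX hC π' = b ≫ piX hC π' ↔
      (a ≫ pullback.fst f f) ≫ h = (b ≫ pullback.fst f f) ≫ h := by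
  have hι : ∀ c : T ⟶ pullback f f, Set.range c ⊆ (C : Set ↥(pullback f f))ᶜ →
      ∃ c' : T ⟶ (coOpens hC : Scheme.{u}), c' ≫ (coOpens hC).ι = c := by
    intro c hc
    have hc' : Set.range c ⊆ Set.range (coOpens hC).ι := by rwa [Scheme.Opens.range_ι]
    exact ⟨_, IsOpenImmersion.lift_fac _ c hc'⟩
  obtain ⟨a', rfl⟩ := hι a ha
  constructor
  · intro e
    have hb : Set.range b ⊆ (C : Set ↥(pullback f f))ᶜ := by
      rintro _ ⟨t, rfl⟩ hmem
      have e' := congrArg (fun k => k t) e
      simp only [Scheme.Hom.comp_apply] at e'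
      exact ha ⟨t, rfl⟩ ((piX_mem_iff hC π' _).1 (by
        rw [Scheme.Hom.comp_apply, e']; exact piX_apply_mem hC π' hmem))
    obtain ⟨b', rfl⟩ := hι b hb
    simp only [Category.assoc, ι_piX] at e
    have e2 := ((hQ.ker a' b').1 ((cancel_mono (coprod.inl : E' ⟶ E' ⨿ X)).1
      (by simpa only [Category.assoc] using e))).2
    simpa only [coVal, Category.assoc] using e2
  · intro e
    have hb : Set.range b ⊆ (C : Set ↥(pullback f f))ᶜ := by
      rintro _ ⟨t, rfl⟩ hmem
      let j := T.fromSpecResidueField t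
      have hjb : Set.range (j ≫ b) ⊆ (C : Set ↥(pullback f f)) := by
        rintro _ ⟨s, rfl⟩
        rwa [Scheme.Hom.comp_apply, Scheme.fromSpecResidueField_apply]
      have h1 := (hC.range_subset_iff (j ≫ b)).2 hjb
      have h2 : ((j ≫ a' ≫ (coOpens hC).ι) ≫ pullback.fst f f) ≫ h =
          ((j ≫ a' ≫ (coOpens hC).ι) ≫ pullback.snd f f) ≫ h := by
        have e1 := congrArg (j ≫ ·) e
        have e2 := congrArg (fun k => j ≫ k ≫ h) w
        simp only [Category.assoc] at e1 e2 h1 ⊢
        rw [e1, h1, e2]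
      have h3 := (hC.range_subset_iff _).1 h2 ⟨IsLocalRing.closedPoint _, rfl⟩
      erw [Scheme.Hom.comp_apply, Scheme.fromSpecResidueField_apply] at h3
      exact ha ⟨t, rfl⟩ h3
    obtain ⟨b', rfl⟩ := hι b hb
    simp only [Category.assoc, ι_piX]
    rw [← Category.assoc, ← Category.assoc b', (hQ.ker a' b').2 ⟨by
      simpa only [coHom, Category.assoc] using w, by
      simpa only [coVal, Category.assoc] using e⟩]

theorem piX_ker (hQ : IsQuot (coHom hC) (coVal hC ≫ h) π' g') {T : Scheme.{u}}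
    (a b : T ⟶ pullback f f) (w : a ≫ pullback.snd f f = b ≫ pullback.snd f f) :
    a ≫ piX hC π' = b ≫ piX hC π' ↔
      (a ≫ pullback.fst f f) ≫ h = (b ≫ pullback.fst f f) ≫ h := by
  have key : ∀ t : T, ∃ U : T.Opens, t ∈ U ∧
      ((U.ι ≫ a) ≫ piX hC π' = (U.ι ≫ b) ≫ piX hC π' ↔
      ((U.ι ≫ a) ≫ pullback.fst f f) ≫ h = ((U.ι ≫ b) ≫ pullback.fst f f) ≫ h) := by
    intro t
    have w' : ∀ U : T.Opens, (U.ι ≫ a) ≫ pullback.snd f f = (U.ι ≫ b) ≫ pullback.snd f f :=
      fun U => by rw [Category.assoc, Category.assoc, w]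
    by_cases ht : a t ∈ C
    · exact ⟨a ⁻¹ᵁ C, ht, piX_ker_C hC π' _ _ (w' _) (by
        rintro _ ⟨s, rfl⟩; rw [Scheme.Hom.comp_apply]; exact s.2)⟩
    · exact ⟨a ⁻¹ᵁ coOpens hC, ht, piX_ker_Q hC π' hQ _ _ (w' _) (by
        rintro _ ⟨s, rfl⟩; rw [Scheme.Hom.comp_apply]; exact s.2)⟩
  constructor
  · intro e
    refine Scheme.hom_ext_of_forall _ _ fun t => ?_
    obtain ⟨U, hU, hiff⟩ := key t
    refine ⟨U, hU, ?_⟩
    have := hiff.1 (by rw [Category.assoc, Category.assoc, e])
    simpa only [Category.assoc] using this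
  · intro e
    refine Scheme.hom_ext_of_forall _ _ fun t => ?_
    obtain ⟨U, hU, hiff⟩ := key t
    refine ⟨U, hU, ?_⟩
    have e' := congrArg (U.ι ≫ ·) e
    have := hiff.2 (by simpa only [Category.assoc] using e')
    simpa only [Category.assoc] using this

/-- The quotient over a surjective base, from that of the complement after base change. -/
theorem exists_quot_step [IsNoetherian X] [IsNoetherian W] [Flat f] [Surjective f]
    [LocallyOfFinitePresentation f] (hQ : IsQuot (coHom hC) (coVal hC ≫ h) π' g') :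
    ∃ (E : Scheme.{u}) (π : X ⟶ E) (g : E ⟶ W), IsQuot f h π g := by
  haveI := hQ.flat
  haveI := hQ.surj
  haveI := hQ.etale
  haveI := hQ.sep
  haveI : IsLocallyNoetherian (pullback f f) :=
    LocallyOfFiniteType.isLocallyNoetherian (pullback.snd f f)
  haveI : CompactSpace ↥(pullback f f) :=
    QuasiCompact.compactSpace_of_compactSpace (pullback.snd f f)
  haveI : IsNoetherian (pullback f f) := {}
  haveI : QuasiCompact f := inferInstance
  let gX : E' ⨿ X ⟶ X := coprod.desc g' (𝟙 X)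
  haveI hgXe : Etale gX := coprodDesc_mem (@Etale : MorphismProperty Scheme.{u}) _ _ hQ.etale inferInstance
  haveI hgXs : IsSeparated gX := isSeparated_coprodDesc_id g'
  haveI : LocallyQuasiFinite gX := Henselian.DescendSection.locallyQuasiFinite_of_etale gX
  let πX := piX hC π'
  have hπX : πX ≫ gX = pullback.snd f f := piX_comp hC π' hQ.fac
  haveI : Flat πX := flat_piX hC π'
  haveI : Surjective πX := surjective_piX hC π'
  haveI : QuasiCompact πX := inferInstance
  -- the gluing map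
  let V₂ := pullback (gX ≫ f) f
  let c : pullback (pullback.fst (gX ≫ f) f) πX ⟶ V₂ := pullback.fst _ _
  let r : pullback (pullback.fst (gX ≫ f) f) πX ⟶ pullback f f := pullback.snd _ _
  have hcr : c ≫ pullback.fst (gX ≫ f) f = r ≫ πX := pullback.condition
  have wk : (r ≫ pullback.fst f f) ≫ f = (c ≫ pullback.snd (gX ≫ f) f) ≫ f := by
    rw [Category.assoc, Category.assoc, ← pullback.condition (f := gX ≫ f) (g := f),
      reassoc_of% hcr, reassoc_of% hπX, pullback.condition]
  let k : pullback (pullback.fst (gX ≫ f) f) πX ⟶ E' ⨿ X :=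
    pullback.lift _ _ wk ≫ πX
  haveI : Flat c := inferInstance
  haveI : Surjective c := inferInstance
  haveI : QuasiCompact c := inferInstance
  have hk : ∀ {T : Scheme.{u}} (g₁ g₂ : T ⟶ pullback (pullback.fst (gX ≫ f) f) πX),
      g₁ ≫ c = g₂ ≫ c → g₁ ≫ k = g₂ ≫ k := by
    intro T g₁ g₂ e
    have eπ : (g₁ ≫ r) ≫ πX = (g₂ ≫ r) ≫ πX := by
      rw [Category.assoc, Category.assoc, ← hcr, reassoc_of% e]
    have esnd : (g₁ ≫ r) ≫ pullback.snd f f = (g₂ ≫ r) ≫ pullback.snd f f := by
      rw [← hπX, ← Category.assoc, ← Category.assoc (g₂ ≫ r), eπ]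
    have eh := (piX_ker hC π' hQ _ _ esnd).1 eπ
    simp only [k, ← Category.assoc]
    refine (piX_ker hC π' hQ _ _ ?_).2 ?_
    · simp only [Category.assoc, pullback.lift_snd]
      rw [reassoc_of% e]
    · simp only [Category.assoc, pullback.lift_fst_assoc] at eh ⊢
      exact eh
  let act : V₂ ⟶ E' ⨿ X := EffectiveEpi.desc c k (fun g₁ g₂ e => hk g₁ g₂ e)
  have hact : c ≫ act = k := EffectiveEpi.fac c k _
  have hactg : act ≫ gX = pullback.snd (gX ≫ f) f := by
    rw [← cancel_epi c, reassoc_of% hact]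
    simp only [k, Category.assoc, hπX, pullback.lift_snd]
  have key : ∀ {T : Scheme.{u}} (q : T ⟶ pullback f f) (x : T ⟶ X)
      (w₁ : (q ≫ πX) ≫ gX ≫ f = x ≫ f) (w₂ : (q ≫ pullback.fst f f) ≫ f = x ≫ f),
      pullback.lift (q ≫ πX) x w₁ ≫ act = pullback.lift (q ≫ pullback.fst f f) x w₂ ≫ πX := by
    intro T q x w₁ w₂
    let L : T ⟶ pullback (pullback.fst (gX ≫ f) f) πX :=
      pullback.lift (pullback.lift (q ≫ πX) x w₁) q (by rw [pullback.lift_fst])
    have hL : L ≫ c = pullback.lift (q ≫ πX) x w₁ := pullback.lift_fst _ _ _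
    rw [← hL, Category.assoc, hact]
    simp only [k, ← Category.assoc]
    congr 1
    apply pullback.hom_ext
    · simp only [Category.assoc, pullback.lift_fst, L, r, pullback.lift_snd_assoc]
    · simp only [Category.assoc, pullback.lift_snd, L, c, pullback.lift_fst_assoc]
  have wq : ∀ {T : Scheme.{u}} (q : T ⟶ pullback f f) (x : T ⟶ X),
      (q ≫ πX) ≫ gX ≫ f = x ≫ f → (q ≫ pullback.fst f f) ≫ f = x ≫ f := by
    intro T q x e
    rw [Category.assoc, reassoc_of% hπX] at e
    rw [Category.assoc, pullback.condition, e]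
  have act_self : ∀ {T : Scheme.{u}} (v : T ⟶ E' ⨿ X) (w₁ : v ≫ gX ≫ f = (v ≫ gX) ≫ f),
      pullback.lift v (v ≫ gX) w₁ ≫ act = v := by
    intro T v w₁
    rw [← cancel_epi (pullback.fst v πX)]
    set q := pullback.snd v πX
    have hq : pullback.fst v πX ≫ v = q ≫ πX := pullback.condition
    have w₂ : (q ≫ πX) ≫ gX ≫ f = (q ≫ pullback.snd f f) ≫ f := by
      rw [Category.assoc, reassoc_of% hπX, Category.assoc]
    have e1 : pullback.fst v πX ≫ pullback.lift v (v ≫ gX) w₁ =
        pullback.lift (q ≫ πX) (q ≫ pullback.snd f f) w₂ := by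
      apply pullback.hom_ext
      · simp only [Category.assoc, pullback.lift_fst, hq]
      · simp only [Category.assoc, pullback.lift_snd, reassoc_of% hq, hπX]
    rw [reassoc_of% e1, key q _ w₂ (wq q _ w₂), hq]
    congr 1
    exact pullback.hom_ext (pullback.lift_fst _ _ _) (pullback.lift_snd _ _ _)
  have act_act : ∀ {T : Scheme.{u}} (v : T ⟶ E' ⨿ X) (x₁ x₂ : T ⟶ X)
      (w₁ : v ≫ gX ≫ f = x₁ ≫ f) (w₂ : x₁ ≫ f = x₂ ≫ f)
      (w₃ : (pullback.lift v x₁ w₁ ≫ act) ≫ gX ≫ f = x₂ ≫ f),
      pullback.lift (pullback.lift v x₁ w₁ ≫ act) x₂ w₃ ≫ act =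
        pullback.lift v x₂ (w₁.trans w₂) ≫ act := by
    intro T v x₁ x₂ w₁ w₂ w₃
    rw [← cancel_epi (pullback.fst v πX)]
    set q := pullback.snd v πX
    set p := pullback.fst v πX
    have hq : p ≫ v = q ≫ πX := pullback.condition
    have u₁ : (q ≫ πX) ≫ gX ≫ f = (p ≫ x₁) ≫ f := by
      rw [← hq, Category.assoc, w₁, Category.assoc]
    have u₂ : (q ≫ πX) ≫ gX ≫ f = (p ≫ x₂) ≫ f := by
      rw [u₁, Category.assoc, w₂, Category.assoc]
    have e1 : p ≫ pullback.lift v x₁ w₁ ≫ act =
        pullback.lift (q ≫ pullback.fst f f) (p ≫ x₁) (wq q _ u₁) ≫ πX := by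
      rw [← key q _ u₁ (wq q _ u₁), ← Category.assoc]
      congr 1
      apply pullback.hom_ext
      · simp only [Category.assoc, pullback.lift_fst, hq]
      · simp only [Category.assoc, pullback.lift_snd]
    set q₁ := pullback.lift (q ≫ pullback.fst f f) (p ≫ x₁) (wq q _ u₁)
    have u₃ : (q₁ ≫ πX) ≫ gX ≫ f = (p ≫ x₂) ≫ f := by
      rw [← e1]
      simp only [Category.assoc] at w₃ ⊢
      rw [w₃]
    have e2 : p ≫ pullback.lift (pullback.lift v x₁ w₁ ≫ act) x₂ w₃ =
        pullback.lift (q₁ ≫ πX) (p ≫ x₂) u₃ := by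
      apply pullback.hom_ext
      · simp only [Category.assoc, pullback.lift_fst, e1]
      · simp only [Category.assoc, pullback.lift_snd]
    have e3 : p ≫ pullback.lift v x₂ (w₁.trans w₂) = pullback.lift (q ≫ πX) (p ≫ x₂) u₂ := by
      apply pullback.hom_ext
      · simp only [Category.assoc, pullback.lift_fst, hq]
      · simp only [Category.assoc, pullback.lift_snd]
    rw [reassoc_of% e2, reassoc_of% e3, key q₁ _ u₃ (wq _ _ u₃), key q _ u₂ (wq _ _ u₂)]
    congr 1
    apply pullback.hom_ext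
    · simp only [q₁, pullback.lift_fst]
    · simp only [pullback.lift_snd]
  -- the descent datum
  have wl : ∀ {T : Scheme.{u}} {x₀ x₁ : T ⟶ X}, x₀ ≫ f = x₁ ≫ f →
      ∀ v : Desc.Lifts (Over.mk gX) x₀, v.1 ≫ gX ≫ f = x₁ ≫ f := fun e v => by
    have hv : v.1 ≫ gX = _ := v.2
    rw [reassoc_of% hv]; exact e
  let φfun : ∀ {T : Scheme.{u}} (x₀ x₁ : T ⟶ X), x₀ ≫ f = x₁ ≫ f →
      Desc.Lifts (Over.mk gX) x₀ → Desc.Lifts (Over.mk gX) x₁ := fun {T} x₀ x₁ e v =>
    ⟨pullback.lift v.1 x₁ (wl e v) ≫ act, by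
      show (_ ≫ act) ≫ gX = x₁
      rw [Category.assoc, hactg, pullback.lift_snd]⟩
  have φ_self : ∀ {T : Scheme.{u}} (x : T ⟶ X) (v : Desc.Lifts (Over.mk gX) x),
      φfun x x rfl v = v := fun {T} x v => by
    obtain ⟨v, rfl⟩ := v
    exact Subtype.ext (act_self v _)
  have φ_comp : ∀ {T : Scheme.{u}} (x₀ x₁ x₂ : T ⟶ X) (e₁ : x₀ ≫ f = x₁ ≫ f)
      (e₂ : x₁ ≫ f = x₂ ≫ f) (v : Desc.Lifts (Over.mk gX) x₀),
      φfun x₁ x₂ e₂ (φfun x₀ x₁ e₁ v) = φfun x₀ x₂ (e₁.trans e₂) v :=
    fun {T} x₀ x₁ x₂ e₁ e₂ v => Subtype.ext (act_act v.1 x₁ x₂ _ e₂ _)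
  let D : Desc.SchDD f :=
    { obj := Over.mk gX
      φ := fun T x₀ x₁ e =>
        { toFun := φfun x₀ x₁ e
          invFun := φfun x₁ x₀ e.symm
          left_inv := fun v => by rw [φ_comp x₀ x₁ x₀ e e.symm, φ_self]
          right_inv := fun v => by rw [φ_comp x₁ x₀ x₁ e.symm e, φ_self] }
      φ_natural := fun T T' g x₀ x₁ e e' v v' hv => by
        show pullback.lift v'.1 (g ≫ x₁) _ ≫ act = g ≫ pullback.lift v.1 x₁ _ ≫ act
        rw [← Category.assoc]
        congr 1
        apply pullback.hom_ext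
        · simp only [Category.assoc, pullback.lift_fst, hv]
        · simp only [Category.assoc, pullback.lift_snd]
      φ_self := fun T x v => φ_self x v
      φ_comp := fun T x₀ x₁ x₂ e₁ e₂ v => φ_comp x₀ x₁ x₂ e₁ e₂ v }
  haveI : IsSeparated D.obj.hom := hgXs
  haveI : LocallyQuasiFinite D.obj.hom := show LocallyQuasiFinite gX from inferInstance
  haveI : LocallyOfFiniteType D.obj.hom := show LocallyOfFiniteType gX from inferInstance
  obtain ⟨U, qU, HU⟩ := FFDesc.exists_isDescended_of_lqf D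
  have hactD : FFDesc.act D = act := by
    show pullback.lift (FFDesc.pr D) (FFDesc.pr₁ D) _ ≫ act = act
    exact (congrArg (· ≫ act) (show pullback.lift (FFDesc.pr D) (FFDesc.pr₁ D)
      pullback.condition = 𝟙 V₂ from pullback.hom_ext
        ((pullback.lift_fst _ _ _).trans (Category.id_comp _).symm)
        ((pullback.lift_snd _ _ _).trans (Category.id_comp _).symm))).trans (Category.id_comp _)
  have hinv : pullback.fst (gX ≫ f) f ≫ qU = act ≫ qU := hactD ▸ HU.inv
  have sq : IsPullback gX qU f U.hom := HU.isPullback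
  have hp : (@Surjective ⊓ @Flat ⊓ @QuasiCompact : MorphismProperty Scheme.{u}) f :=
    ⟨⟨inferInstance, inferInstance⟩, inferInstance⟩
  haveI : Etale U.hom := MorphismProperty.of_isPullback_of_descendsAlong
    (P := @Etale) sq hp hgXe
  haveI : IsSeparated U.hom := MorphismProperty.of_isPullback_of_descendsAlong
    (P := @IsSeparated) sq hp hgXs
  haveI : Surjective qU := MorphismProperty.of_isPullback sq ‹Surjective f›
  let Δ : X ⟶ pullback f f := pullback.lift (𝟙 X) (𝟙 X) rfl
  let π : X ⟶ U.left := Δ ≫ πX ≫ qU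
  have hπfst : pullback.fst f f ≫ π = πX ≫ qU := by
    have w₁ : (𝟙 _ ≫ πX) ≫ gX ≫ f = pullback.fst f f ≫ f := by
      rw [Category.id_comp, reassoc_of% hπX, pullback.condition]
    have e := key (𝟙 (pullback f f)) (pullback.fst f f) w₁ (by rw [Category.id_comp])
    have e' := congrArg (· ≫ qU) e
    simp only [Category.assoc, ← hinv, pullback.lift_fst_assoc, Category.id_comp] at e'
    refine Eq.trans ?_ e'.symm
    simp only [π, ← Category.assoc]
    congr 2
    apply pullback.hom_ext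
    · simp only [Δ, Category.assoc, pullback.lift_fst, Category.comp_id]
    · simp only [Δ, Category.assoc, pullback.lift_snd, Category.comp_id]
  have hfac : π ≫ U.hom = f := by
    simp only [π, Category.assoc, ← sq.w, reassoc_of% hπX, Δ, pullback.lift_snd_assoc,
      Category.id_comp]
  haveI : Flat (π ≫ U.hom) := by rw [hfac]; infer_instance
  haveI : Surjective (pullback.fst f f ≫ π) := by rw [hπfst]; infer_instance
  refine ⟨U.left, π, U.hom, hfac, StCurv.flat_of_comp_etale π U.hom,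
    Surjective.of_comp (pullback.fst f f) π, inferInstance, inferInstance, fun {T} a b => ?_⟩
  constructor
  · intro e
    have ef : a ≫ f = b ≫ f := by rw [← hfac, reassoc_of% e]
    refine ⟨ef, ?_⟩
    let la : T ⟶ pullback f f := pullback.lift a a rfl
    let lb : T ⟶ pullback f f := pullback.lift b a ef.symm
    have e1 : (la ≫ πX) ≫ qU = (lb ≫ πX) ≫ qU := by
      simp only [Category.assoc, ← hπfst, la, lb, pullback.lift_fst_assoc]
      exact e
    have e2 : la ≫ πX = lb ≫ πX := sq.hom_ext (by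
      simp only [Category.assoc, hπX, la, lb, pullback.lift_snd]) e1
    have e3 := (piX_ker hC π' hQ la lb (by simp only [la, lb, pullback.lift_snd])).1 e2
    simpa only [la, lb, pullback.lift_fst] using e3
  · rintro ⟨ef, eh⟩
    let la : T ⟶ pullback f f := pullback.lift a a rfl
    let lb : T ⟶ pullback f f := pullback.lift b a ef.symm
    have e2 : la ≫ πX = lb ≫ πX :=
      (piX_ker hC π' hQ la lb (by simp only [la, lb, pullback.lift_snd])).2
        (by simpa only [la, lb, pullback.lift_fst] using eh)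
    have e1 := congrArg (· ≫ qU) e2
    simpa only [Category.assoc, ← hπfst, la, lb, pullback.lift_fst_assoc] using e1

end Step

/-- The étale quotient by a clopen agreement locus exists. -/
theorem exists_quot_of_not_hasPts (n : ℕ) : ∀ {X W : Scheme.{u}} [IsNoetherian X] [IsNoetherian W]
    (f : X ⟶ W) [Flat f] [LocallyOfFinitePresentation f] (h : X ⟶ V) (C : (pullback f f).Opens),
    IsEqLocus f h C →
    (∀ (K : Type u) [Field K] [IsAlgClosed K] (s : Spec (.of K) ⟶ W), ¬ HasPts f h n K s) →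
    ∃ (E : Scheme.{u}) (π : X ⟶ E) (g : E ⟶ W), IsQuot f h π g := by
  induction n with
  | zero =>
    intro X W _ _ f _ _ h C _ hn
    haveI : IsEmpty W := ⟨fun w => hn (AlgebraicClosure (W.residueField w))
      (Spec.map (CommRingCat.ofHom (algebraMap (W.residueField w) _)) ≫ W.fromSpecResidueField w)
      ⟨Fin.elim0, fun i => i.elim0, fun i => i.elim0⟩⟩
    haveI : IsEmpty X := Function.isEmpty f
    haveI : IsOpenImmersion f := inferInstance
    refine ⟨X, 𝟙 X, f, Category.id_comp f, inferInstance, inferInstance, inferInstance,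
      inferInstance, fun {T} a b => ?_⟩
    haveI : IsEmpty T := Function.isEmpty a
    have e : a = b := (isInitialOfIsEmpty (X := T)).hom_ext a b
    exact ⟨fun _ => by rw [e]; exact ⟨rfl, rfl⟩, fun _ => by rw [e]⟩
  | succ n ih =>
    intro X W _ _ f _ _ h C hC hn
    let U : W.Opens := ⟨Set.range f, f.isOpenMap.isOpen_range⟩
    haveI : IsLocallyNoetherian U := LocallyOfFiniteType.isLocallyNoetherian U.ι
    haveI : CompactSpace U := QuasiCompact.compactSpace_of_compactSpace U.ι
    haveI : IsNoetherian U := {}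
    have hr : Set.range f ⊆ Set.range U.ι := by
      rw [Scheme.Opens.range_ι]; exact subset_rfl
    let f' : X ⟶ U := IsOpenImmersion.lift U.ι f hr
    have hf' : f' ≫ U.ι = f := IsOpenImmersion.lift_fac _ _ _
    haveI : Surjective f' := ⟨by
      rintro ⟨_, x, rfl⟩
      exact ⟨x, U.ι.injective (by rw [← Scheme.Hom.comp_apply, hf']; rfl)⟩⟩
    haveI : Flat f' := by
      have : Flat (f' ≫ U.ι) := by rw [hf']; infer_instance
      exact StCurv.flat_of_comp_etale f' U.ι
    haveI : LocallyOfFinitePresentation f' := by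
      rw [LocallyOfFinitePresentation.iff_locallyOfFiniteType]
      have : LocallyOfFiniteType (f' ≫ U.ι) := by rw [hf']; infer_instance
      exact locallyOfFiniteType_of_comp f' U.ι
    obtain ⟨C₁, hC₁⟩ : ∃ C₁, IsEqLocus f' h C₁ := by
      refine ⟨_, Category.id_comp h ▸ hC.pull f' (𝟙 X) ?_⟩
      rw [Category.comp_id, Category.comp_id, ← hf', pullback.condition_assoc]
    haveI : IsLocallyNoetherian (pullback f' f') :=
      LocallyOfFiniteType.isLocallyNoetherian (pullback.snd f' f')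
    haveI : CompactSpace ↥(pullback f' f') :=
      QuasiCompact.compactSpace_of_compactSpace (pullback.snd f' f')
    haveI : IsNoetherian (pullback f' f') := {}
    haveI : IsLocallyNoetherian (coOpens hC₁ : Scheme.{u}) :=
      LocallyOfFiniteType.isLocallyNoetherian (coOpens hC₁).ι
    haveI : CompactSpace (coOpens hC₁ : Scheme.{u}) :=
      QuasiCompact.compactSpace_of_compactSpace (coOpens hC₁).ι
    haveI : IsNoetherian (coOpens hC₁ : Scheme.{u}) := {}
    obtain ⟨C₂, hC₂⟩ := exists_isEqLocus_coHom hC₁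
    obtain ⟨E', π', g', hQ⟩ := ih (coHom hC₁) (coVal hC₁ ≫ h) C₂ hC₂ (fun K _ _ y hy => by
      obtain ⟨x, hx, hinj⟩ := hy.succ hC₁
      exact hn K ((y ≫ f') ≫ U.ι) ⟨x, fun i => by rw [← hf', reassoc_of% hx i, Category.assoc],
        hinj⟩)
    obtain ⟨E, π, g, hfac, h1, h2, h3, h4, hker⟩ := exists_quot_step hC₁ π' hQ
    refine ⟨E, π, g ≫ U.ι, by rw [reassoc_of% hfac, hf'], h1, h2, inferInstance, inferInstance,
      fun {T} a b => ?_⟩
    rw [hker a b, ← hf', ← Category.assoc a, ← Category.assoc b, cancel_mono U.ι]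

theorem exists_quot [IsNoetherian X] [IsNoetherian W] (f : X ⟶ W) [Flat f]
    [LocallyOfFinitePresentation f] (h : X ⟶ V) (C : (pullback f f).Opens)
    (hC : IsEqLocus f h C) :
    ∃ (E : Scheme.{u}) (π : X ⟶ E) (g : E ⟶ W), IsQuot f h π g := by
  obtain ⟨n, hn⟩ := exists_bound_hasPts f h C hC
  exact exists_quot_of_not_hasPts n f h C hC hn

end Groth.Agent.Lib.EtHull9
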